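import Groth.Agent.SchFinLib.Basic
import Mathlib.RingTheory.Spectrum.Prime.Topology

/-! Connectedness of finite ringed posets through idempotents. -/

set_option autoImplicit false

namespace Groth.Agent.SchFinLib

open SchFin

universe u

/-- A ring is *connected* when it is nonzero and has only trivial idempotents. -/
theorem connectedSpace_spec_iff (R : Type u) [CommRing R] :
    ConnectedSpace (PrimeSpectrum R) ↔
      Nontrivial R ∧ ∀ e : R, IsIdempotentElem e → e = 0 ∨ e = 1 := by
  constructor
  · intro h
    have hn : Nontrivial R := PrimeSpectrum.nonempty_iff_nontrivial.1 h.toNonempty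
    refine ⟨hn, fun e he => ?_⟩
    rcases _root_.isClopen_iff.1 ((PrimeSpectrum.isClopen_iff (s := (PrimeSpectrum.basicOpen e : Set (PrimeSpectrum R)))).2 ⟨e, he, rfl⟩) with h0 | h1
    · exact Or.inl (PrimeSpectrum.basicOpen_injOn_isIdempotentElem he IsIdempotentElem.zero
        (SetLike.ext' (h0.trans (by simp))))
    · exact Or.inr (PrimeSpectrum.basicOpen_injOn_isIdempotentElem he IsIdempotentElem.one
        (SetLike.ext' (h1.trans (by simp))))
  · rintro ⟨hn, he⟩
    haveI : Nonempty (PrimeSpectrum R) := PrimeSpectrum.nonempty_iff_nontrivial.2 hn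
    haveI : PreconnectedSpace (PrimeSpectrum R) := preconnectedSpace_iff_clopen.2 fun s hs => by
      obtain ⟨e, he', rfl⟩ := PrimeSpectrum.isClopen_iff.1 hs
      rcases he e he' with rfl | rfl
      · exact Or.inl (by rw [PrimeSpectrum.basicOpen_zero]; rfl)
      · exact Or.inr (by rw [PrimeSpectrum.basicOpen_one]; rfl)
    exact { toNonempty := inferInstance }

variable {X : RSpace.{u}}

theorem eq_of_topConnected (hX : X.IsTopConnected) {β : Type*} (f : X.pt → β)
    (h : ∀ p q : X.pt, p ≤ q → f p = f q) (p q : X.pt) : f p = f q := by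
  induction hX.2 p q with
  | rel a b hab => exact h a b hab
  | refl a => rfl
  | symm a b _ ih => exact ih.symm
  | trans a b c _ _ ih₁ ih₂ => exact ih₁.trans ih₂

theorem nontrivial_ring (hP : X.IsPwConnected) (p : X.pt) : Nontrivial (X.ring p) :=
  ((connectedSpace_spec_iff _).1 (hP p)).1

theorem idem_trivial (hP : X.IsPwConnected) (p : X.pt) {e : X.ring p} (he : IsIdempotentElem e) :
    e = 0 ∨ e = 1 :=
  ((connectedSpace_spec_iff _).1 (hP p)).2 e he

theorem isConnected_iff_topConnected (hP : X.IsPwConnected) :
    X.IsConnected ↔ X.IsTopConnected := by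
  classical
  constructor
  · intro h
    obtain ⟨hn, hid⟩ := (connectedSpace_spec_iff _).1 h
    have hne : Nonempty X.pt := by
      by_contra hne
      exact one_ne_zero (α := X.sectRing Set.univ)
        (Subtype.ext (funext fun q => absurd ⟨q.1⟩ hne))
    refine ⟨hne, fun p q => ?_⟩
    let r := fun a b : X.pt => a ≤ b
    have hiff : ∀ a b : X.pt, a ≤ b → (Relation.EqvGen r p a ↔ Relation.EqvGen r p b) := fun a b hab =>
      ⟨fun h => h.trans _ _ _ (.rel _ _ hab),
        fun h => h.trans _ _ _ (.symm _ _ (.rel _ _ hab))⟩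
    let e : X.sectRing Set.univ :=
      ⟨fun a => if Relation.EqvGen r p a.1 then 1 else 0, fun a b hab => by
        dsimp only
        by_cases ha : Relation.EqvGen r p a.1
        · rw [if_pos ha, if_pos ((hiff _ _ hab).1 ha), map_one]
        · rw [if_neg ha, if_neg (fun hb => ha ((hiff _ _ hab).2 hb)), map_zero]⟩
    have he : IsIdempotentElem e := Subtype.ext (funext fun a => by
      change (if Relation.EqvGen r p a.1 then (1 : X.ring a.1) else 0) *
        (if Relation.EqvGen r p a.1 then (1 : X.ring a.1) else 0) = _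
      by_cases ha : Relation.EqvGen r p a.1
      · simp only [if_pos ha, mul_one]; exact (if_pos ha).symm
      · simp only [if_neg ha, mul_zero]; exact (if_neg ha).symm)
    rcases hid e he with h0 | h1
    · haveI := nontrivial_ring hP p
      have h2 := congrFun (congrArg Subtype.val h0) ⟨p, trivial⟩
      exact absurd ((if_pos (Relation.EqvGen.refl p)).symm.trans h2) one_ne_zero
    · by_contra hq
      haveI := nontrivial_ring hP q
      have h2 := congrFun (congrArg Subtype.val h1) ⟨q, trivial⟩
      exact one_ne_zero (h2.symm.trans (if_neg hq))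
  · intro h
    obtain ⟨p⟩ := h.1
    haveI := nontrivial_ring hP p
    refine (connectedSpace_spec_iff _).2 ⟨⟨⟨0, 1, fun he => zero_ne_one
      (congrFun (congrArg Subtype.val he) ⟨p, trivial⟩)⟩⟩, fun e he => ?_⟩
    have hidem : ∀ a : (Set.univ : Set X.pt), IsIdempotentElem (e.1 a) := fun a =>
      congrFun (congrArg Subtype.val he) a
    have hconst := eq_of_topConnected h (fun a => e.1 ⟨a, trivial⟩ = 0) (fun a b hab => by
      apply propext
      constructor
      · intro h0
        rw [← e.2 ⟨a, trivial⟩ ⟨b, trivial⟩ hab, h0, map_zero]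
      · intro h0
        rcases idem_trivial hP a (hidem ⟨a, trivial⟩) with h' | h'
        · exact h'
        · haveI := nontrivial_ring hP b
          have := e.2 ⟨a, trivial⟩ ⟨b, trivial⟩ hab
          rw [h', map_one, h0] at this
          exact absurd this one_ne_zero)
    by_cases hp : e.1 ⟨p, trivial⟩ = 0
    · exact Or.inl (Subtype.ext (funext fun a => (hconst p a.1).mp hp))
    · exact Or.inr (Subtype.ext (funext fun a =>
        (idem_trivial hP a.1 (hidem a)).resolve_left fun h0 => hp ((hconst p a.1).mpr h0)))

theorem isWellConnected_iff :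
    X.IsWellConnected ↔ X.IsTopConnected ∧ X.IsPwConnected :=
  ⟨fun h => ⟨(isConnected_iff_topConnected h.2).1 h.1, h.2⟩,
    fun h => ⟨(isConnected_iff_topConnected h.2).2 h.1, h.2⟩⟩

theorem exists_map_of_trivial (hW : X.IsWellConnected) (F E : Type) [Finite F] [Finite E]
    (f : ∀ p : X.pt, (F → X.ring p) →ₐ[X.ring p] (E → X.ring p))
    (hf : ∀ (p q : X.pt) (h : p ≤ q) (g : F → X.ring p) (e : E),
      X.res h (f p g e) = f q (fun i => X.res h (g i)) e) :
    ∃ φ : E → F, ∀ (p : X.pt) (g : F → X.ring p) (e : E), f p g e = g (φ e) := by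
  classical
  obtain ⟨hT, hP⟩ := isWellConnected_iff.1 hW
  haveI := Fintype.ofFinite F
  let ev : ∀ (p : X.pt) (e : E), (F → X.ring p) →ₐ[X.ring p] X.ring p := fun p e =>
    (Pi.evalAlgHom (X.ring p) (fun _ : E => X.ring p) e).comp (f p)
  have hidem : ∀ p e i, IsIdempotentElem (ev p e (Pi.single i 1)) := fun p e i => by
    apply IsIdempotentElem.map
    funext j
    rcases eq_or_ne j i with rfl | hne <;> simp [*]
  have hone : ∀ p e, ∃ i, ev p e (Pi.single i 1) = 1 := fun p e => by
    by_contra hall
    push_neg at hall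
    haveI := nontrivial_ring hP p
    have h0 : ev p e (∑ i, Pi.single i 1) = 0 := by
      rw [map_sum]
      exact Finset.sum_eq_zero fun i _ => (idem_trivial hP p (hidem p e i)).resolve_right (hall i)
    rw [Finset.univ_sum_single] at h0
    exact one_ne_zero ((map_one (ev p e)).symm.trans h0)
  choose φ hφ using hone
  have happly : ∀ p e g, ev p e g = g (φ p e) := fun p e g => by
    have hg : g * Pi.single (φ p e) 1 = g (φ p e) • Pi.single (φ p e) (1 : X.ring p) := by
      funext j
      rcases eq_or_ne j (φ p e) with rfl | hne <;> simp [*]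
    have := congrArg (ev p e) hg
    rw [map_mul, map_smul, hφ, mul_one, smul_eq_mul, mul_one] at this
    exact this
  have hmono : ∀ p q, p ≤ q → φ p = φ q := fun p q hpq => funext fun e => by
    by_contra hne
    have h1 := hf p q hpq (Pi.single (φ p e) 1) e
    change X.res hpq (ev p e _) = ev q e _ at h1
    rw [happly, happly, Pi.single_eq_same, map_one, Pi.single_eq_of_ne (Ne.symm hne), map_zero] at h1
    haveI := nontrivial_ring hP q
    exact one_ne_zero h1
  obtain ⟨p₀⟩ := hT.1
  refine ⟨φ p₀, fun p g e => ?_⟩
  rw [eq_of_topConnected hT φ hmono p₀ p]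
  exact happly p e g

end Groth.Agent.SchFinLib
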