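import Groth.Prelude.Def_SchFin2
import Mathlib.Algebra.Algebra.Epi
import Mathlib.RingTheory.Flat.FaithfullyFlat.Algebra
import Mathlib.RingTheory.Flat.FaithfullyFlat.Descent

/-! Basic facts on finite ringed posets: degree zero cohomology, the two consequences of the
schematic condition (rings over intersections, epimorphism), local rings of pairs. -/

set_option autoImplicit false

open TensorProduct

namespace Groth.Agent.SchFinLib

open SchFin

universe u

section IsBC

variable {R S : Type u} [CommRing R] [CommRing S] {g : R →+* S} {M N : Type u}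
  [AddCommGroup M] [AddCommGroup N] [Module R M] [Module S N] {f : M →ₛₗ[g] N}

/-- The map `S ⊗[R] M → N` of a base change along a ring map is bijective. -/
theorem IsBCAlong.exists_equiv (h : IsBCAlong g f) :
    letI : Algebra R S := g.toAlgebra
    ∃ e : S ⊗[R] M ≃ₗ[S] N, ∀ (s : S) (m : M), e (s ⊗ₜ[R] m) = s • f m := by
  letI : Algebra R S := g.toAlgebra
  letI : Module R N := Module.compHom N g
  haveI : IsScalarTower R S N := IsScalarTower.of_algebraMap_smul fun _ _ => rfl
  have h' : IsBaseChange S ({ toFun := f, map_add' := f.map_add, map_smul' := f.map_smulₛₗ } :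
      M →ₗ[R] N) := h
  exact ⟨h'.equiv, fun s m => h'.equiv_tmul s m⟩

theorem IsBCAlong.of_equiv
    (h : letI : Algebra R S := g.toAlgebra
      ∃ e : S ⊗[R] M ≃ₗ[S] N, ∀ m : M, e ((1 : S) ⊗ₜ[R] m) = f m) :
    IsBCAlong g f := by
  letI : Algebra R S := g.toAlgebra
  letI : Module R N := Module.compHom N g
  haveI : IsScalarTower R S N := IsScalarTower.of_algebraMap_smul fun _ _ => rfl
  obtain ⟨e, he⟩ := h
  exact IsBaseChange.of_equiv e he

end IsBC

section DegreeZero

variable {X : RSpace.{u}} {U : Set X.pt}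

/-- The one-point chain. -/
def single (q : U) : Chain U 0 :=
  OrderEmbedding.ofStrictMono (fun _ => q)
    (fun a b h => absurd h (by rw [show a = b from Fin.ext (by omega)]; exact lt_irrefl b))

theorem single_apply (q : U) (i : Fin 1) : single q i = q := rfl

theorem eq_single (σ : Chain U 0) : σ = single (σ (Fin.last 0)) := by
  ext i
  rw [show i = Fin.last 0 from Fin.ext (by omega)]
  rfl

theorem exists_single (σ : Chain U 0) : ∃ q : U, σ = single q := ⟨_, eq_single σ⟩

/-- The two-point chain. -/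
def pairChain (q q' : U) (h : q < q') : Chain U 1 :=
  OrderEmbedding.ofStrictMono ![q, q'] (Fin.strictMono_iff_lt_succ.2 fun i => by
    fin_cases i; exact h)

variable {R : Type u} [CommRing R] {φ : Coef X U R} {M : OMod X}

theorem res_val_eq (c : Cochain φ M 0) (τ : Chain U 0) (q : U) (hq : τ (Fin.last 0) = q)
    {p : X.pt} (h : (τ (Fin.last 0)).1 ≤ p) (h' : q.1 ≤ p) :
    M.res h (c τ) = M.res h' (c (single q)) := by
  obtain ⟨a, rfl⟩ := exists_single τ
  subst hq
  rfl

theorem diff_zero_apply (c : Cochain φ M 0) (σ : Chain U 1) :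
    diff φ M 0 c σ = c.faceVal σ 0 - c.faceVal σ 1 := by
  change (∑ j : Fin 2, ((-1 : ℤ) ^ (j : ℕ)) • c.faceVal σ j) = _
  rw [Fin.sum_univ_two]
  simp [sub_eq_add_neg]

theorem compat_of_cocycle (c : Cochain φ M 0) (hc : c ∈ cocycles φ M 0) (q q' : U)
    (h : q.1 ≤ q'.1) : M.res h (c (single q)) = c (single q') := by
  rcases eq_or_lt_of_le (show q ≤ q' from h) with e | hlt
  · subst e
    exact M.res_self _ _
  · have h0 : diff φ M 0 c (pairChain q q' hlt) = 0 := congrFun hc _
    rw [diff_zero_apply, sub_eq_zero] at h0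
    refine ((res_val_eq c ((pairChain q q' hlt).face 1) q rfl _ h).symm.trans h0.symm).trans ?_
    exact (res_val_eq c ((pairChain q q' hlt).face 0) q' rfl _ (le_refl _)).trans (M.res_self _ _)

/-- A compatible family as a zero-cochain. -/
def famCochain (s : M.sect U) : Cochain φ M 0 := fun σ => s.1 (σ (Fin.last 0))

theorem famCochain_mem (s : M.sect U) : (famCochain s : Cochain φ M 0) ∈ cocycles φ M 0 := by
  refine funext fun σ => ?_
  rw [diff_zero_apply, Cochain.zero_apply, sub_eq_zero]
  exact (s.2 _ _ (Chain.face_last_le 0 σ)).trans (s.2 _ _ (Chain.face_last_le 1 σ)).symm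

variable (φ M) in
/-- Compatible families as degree zero cohomology. -/
def mk0 (s : M.sect U) : H φ M 0 := H.mk φ M 0 ⟨famCochain s, famCochain_mem s⟩

theorem mk0_add (s t : M.sect U) : mk0 φ M (s + t) = mk0 φ M s + mk0 φ M t :=
  (map_add (H.mk φ M 0) ⟨famCochain (φ := φ) s, famCochain_mem s⟩
    ⟨famCochain (φ := φ) t, famCochain_mem t⟩ :)

theorem mk0_smul (a : R) (s t : M.sect U) (ht : ∀ q, t.1 q = φ.map q a • s.1 q) :
    mk0 φ M t = a • mk0 φ M s := by
  refine Eq.trans ?_ (map_smul (H.mk φ M 0) a ⟨famCochain (φ := φ) s, famCochain_mem s⟩)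
  unfold mk0
  congr 1
  exact Subtype.ext (funext fun σ => ht _)

theorem mk0_injective : Function.Injective (mk0 φ M) := by
  intro s t h
  have h' := (Submodule.Quotient.eq _).1 h
  change famCochain s - famCochain t ∈ (⊥ : Submodule R (Cochain φ M 0)) at h'
  rw [Submodule.mem_bot, sub_eq_zero] at h'
  exact Subtype.ext (funext fun q => congrFun h' (single q))

theorem mk0_surjective : Function.Surjective (mk0 φ M) := by
  intro x
  obtain ⟨c, rfl⟩ := Submodule.mkQ_surjective _ x
  refine ⟨⟨fun q => c.1 (single q), fun q q' h => compat_of_cocycle c.1 c.2 q q' h⟩, ?_⟩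
  unfold mk0
  refine congrArg (H.mk φ M 0) (Subtype.ext (funext fun σ => ?_))
  obtain ⟨q, rfl⟩ := exists_single σ
  rfl

theorem mk0_bijective : Function.Bijective (mk0 φ M) := ⟨mk0_injective, mk0_surjective⟩

/-- Compatible families restricted to a smaller subset. -/
def famRestr {U' : Set X.pt} (hU : U' ⊆ U) (s : M.sect U) : M.sect U' :=
  ⟨fun q => s.1 ⟨q.1, hU q.2⟩, fun q q' h => s.2 ⟨q.1, hU q.2⟩ ⟨q'.1, hU q'.2⟩ h⟩

theorem resH_mk0 {U' : Set X.pt} {R' : Type u} [CommRing R'] {φ' : Coef X U' R'}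
    (s : Coef.Sub φ φ') (t : M.sect U) :
    resH M s 0 (mk0 φ M t) = mk0 φ' M (famRestr s.le t) := rfl

end DegreeZero

section Schematic

variable {X : RSpace.{u}}

/-- The map `O_x ⊗_{O_s} O_y → O(W)` for `x`, `y` above `s` and `W` the points above both. -/
theorem bijective_resSect_mul (hX : X.IsSchematic) {s x y : X.pt} (hx : s ≤ x) (hy : s ≤ y) :
    letI := (X.res hx).toAlgebra
    letI := (X.res hy).toAlgebra
    ∃ e : X.ring x ⊗[X.ring s] X.ring y ≃+ X.sectRing (X.up x ∩ X.up y),
      ∀ a b, e (a ⊗ₜ[X.ring s] b) =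
        X.resSect x _ Set.inter_subset_left a * X.resSect y _ Set.inter_subset_right b := by
  letI := (X.res hx).toAlgebra
  letI := (X.res hy).toAlgebra
  obtain ⟨e₀, he₀⟩ := IsBCAlong.exists_equiv (hX.2.2 0 s x hx y y le_rfl).1
  let W : Set X.pt := (Hom.id X).wedge s y
  let W' : Set X.pt := (Hom.id X).wedge x y
  let φW : Coef X W (X.ring s) := Coef.ofLE s W ((Hom.id X).wedge_subset_up s y)
  let φW' : Coef X W' (X.ring x) := Coef.ofLE x W' ((Hom.id X).wedge_subset_up x y)
  -- the section of the rings over the points above `y` given by an element at `y`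
  let sy : X.ring y → X.str.sect W :=
    fun b => ⟨fun q => X.res (show y ≤ q.1 from q.2.2) b, fun _ _ _ => X.res_comp _ _ b⟩
  have hsy : Function.Bijective sy := by
    have hyW : y ∈ W := ⟨hy, le_refl _⟩
    refine ⟨fun b b' h => ?_, fun t => ⟨t.1 ⟨y, hyW⟩, Subtype.ext (funext fun q => ?_)⟩⟩
    · have := congrFun (congrArg Subtype.val h) ⟨y, hyW⟩
      exact (X.res_self y b).symm.trans (this.trans (X.res_self y b'))
    · exact t.2 ⟨y, hyW⟩ q q.2.2
  let eM : X.ring y ≃ₗ[X.ring s] H φW X.str 0 := LinearEquiv.ofBijective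
    { toFun := fun b => mk0 φW X.str (sy b)
      map_add' := fun b b' => by
        rw [← mk0_add]
        exact congrArg _ (Subtype.ext (funext fun q => map_add _ b b'))
      map_smul' := fun a b => mk0_smul a (sy b) (sy (a • b)) fun q =>
        (map_mul (X.res (show y ≤ q.1 from q.2.2)) (X.res hy a) b).trans
          (congrArg (· * X.res _ b) (X.res_comp _ _ a)) }
    (mk0_bijective.comp hsy)
  let toN : X.sectRing (X.up x ∩ X.up y) → H φW' X.str 0 :=
    fun t => mk0 φW' X.str ⟨t.1, t.2⟩
  have htoN : Function.Bijective toN := by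
    refine ⟨fun t t' h => Subtype.ext (congrArg Subtype.val (mk0_injective h) :), fun z => ?_⟩
    obtain ⟨t, rfl⟩ := mk0_surjective z
    exact ⟨⟨t.1, t.2⟩, rfl⟩
  let eN : X.sectRing (X.up x ∩ X.up y) ≃+ H φW' X.str 0 :=
    AddEquiv.ofBijective (AddMonoidHom.mk' toN fun t t' => by
      rw [← mk0_add]; rfl) htoN
  refine ⟨((LinearEquiv.lTensor (X.ring x) eM).toAddEquiv.trans e₀.toAddEquiv).trans eN.symm,
    fun a b => ?_⟩
  apply eN.injective
  rw [AddEquiv.trans_apply, AddEquiv.apply_symm_apply]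
  refine (he₀ a (eM b)).trans ?_
  change a • resH X.str _ 0 (mk0 φW X.str (sy b)) = mk0 φW' X.str _
  rw [resH_mk0]
  exact (mk0_smul a _ _ fun q => rfl).symm

/-- Restrictions of a schematic space are epimorphisms of rings. -/
theorem one_tmul_eq (hX : X.IsSchematic) {x y : X.pt} (h : x ≤ y) (b : X.ring y) :
    letI := (X.res h).toAlgebra
    (1 : X.ring y) ⊗ₜ[X.ring x] b = b ⊗ₜ[X.ring x] 1 := by
  letI := (X.res h).toAlgebra
  obtain ⟨e, he⟩ := bijective_resSect_mul hX h h
  apply e.injective
  simp only [he, map_one, one_mul, mul_one]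

theorem ringHom_ext (hX : X.IsSchematic) {x y : X.pt} (h : x ≤ y) {T : Type*} [CommRing T]
    (g₁ g₂ : X.ring y →+* T) (hg : g₁.comp (X.res h) = g₂.comp (X.res h)) : g₁ = g₂ := by
  letI := (X.res h).toAlgebra
  letI : Algebra (X.ring x) T := (g₁.comp (X.res h)).toAlgebra
  let f₁ : X.ring y →ₐ[X.ring x] T := { g₁ with commutes' := fun _ => rfl }
  let f₂ : X.ring y →ₐ[X.ring x] T :=
    { g₂ with commutes' := fun a => (RingHom.congr_fun hg a).symm }
  refine RingHom.ext fun b => ?_
  have := congrArg (Algebra.TensorProduct.productMap f₁ f₂) (one_tmul_eq hX h b)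
  simp only [Algebra.TensorProduct.productMap_apply_tmul, map_one, one_mul, mul_one] at this
  exact this.symm

theorem bijective_localRingHom (hX : X.IsSchematic) {x y : X.pt} (h : x ≤ y)
    (P : Ideal (X.ring y)) [P.IsPrime] :
    Function.Bijective (Localization.localRingHom (P.comap (X.res h)) P (X.res h) rfl) := by
  set g := Localization.localRingHom (P.comap (X.res h)) P (X.res h) rfl with hg
  have hflat : g.Flat := RingHom.Flat.localRingHom (hX.1.2 x y h) ..
  have hloc : IsLocalHom g := inferInstanceAs (IsLocalHom (Localization.localRingHom _ _ _ _))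
  algebraize [g]
  haveI : IsLocalHom (algebraMap (Localization.AtPrime (P.comap (X.res h)))
    (Localization.AtPrime P)) := hloc
  haveI := Module.FaithfullyFlat.of_flat_of_isLocalHom
    (A := Localization.AtPrime (P.comap (X.res h))) (B := Localization.AtPrime P)
  let A := Localization.AtPrime (P.comap (X.res h))
  let B := Localization.AtPrime P
  have key : ∀ b : B, (1 : B) ⊗ₜ[A] b = b ⊗ₜ[A] 1 := fun b => by
    refine (RingHom.congr_fun
      (IsLocalization.ringHom_ext P.primeCompl
        (j := (Algebra.TensorProduct.includeRight : B →ₐ[A] B ⊗[A] B).toRingHom)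
        (k := (Algebra.TensorProduct.includeLeftRingHom : B →+* B ⊗[A] B))
        (ringHom_ext hX h _ _ (RingHom.ext fun a => ?_))) b :)
    change (1 : B) ⊗ₜ[A] algebraMap (X.ring y) B (X.res h a) =
      algebraMap (X.ring y) B (X.res h a) ⊗ₜ[A] (1 : B)
    rw [← Localization.localRingHom_to_map (P.comap (X.res h)) P (X.res h) rfl a]
    change (1 : B) ⊗ₜ[A] algebraMap A B (algebraMap _ A a) =
      algebraMap A B (algebraMap _ A a) ⊗ₜ[A] (1 : B)
    rw [Algebra.algebraMap_eq_smul_one (A := B), TensorProduct.tmul_smul, TensorProduct.smul_tmul']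
  haveI : Algebra.IsEpi A B := (Algebra.isEpi_iff_forall_one_tmul_eq A B).2 key
  refine Module.FaithfullyFlat.bijective_of_tensorProduct (R := A) (S := B) (T := B) ⟨?_, ?_⟩
  · intro a a' haa
    have := congrArg (Algebra.TensorProduct.lmul' A (S := B)) haa
    simpa [Algebra.TensorProduct.algebraMap_apply] using this
  · intro t
    induction t with
    | zero => exact ⟨0, map_zero _⟩
    | tmul a b =>
      refine ⟨a * b, ?_⟩
      rw [Algebra.TensorProduct.algebraMap_apply]
      change (a * b) ⊗ₜ[A] (1 : B) = a ⊗ₜ[A] b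
      calc (a * b) ⊗ₜ[A] (1 : B) = (a ⊗ₜ[A] (1 : B)) * (b ⊗ₜ[A] (1 : B)) := by simp
        _ = (a ⊗ₜ[A] (1 : B)) * ((1 : B) ⊗ₜ[A] b) := by rw [key]
        _ = a ⊗ₜ[A] b := by simp
    | add a b ha hb =>
      obtain ⟨a', rfl⟩ := ha
      obtain ⟨b', rfl⟩ := hb
      exact ⟨a' + b', map_add _ _ _⟩

theorem bijective_κMap (hX : X.IsSchematic) (a b : X.Pair) (h : a.1 ≤ b.1)
    (hp : PrimeSpectrum.comap (X.res h) b.2 = a.2) :
    Function.Bijective (RSpace.Pair.κMap a b h hp) := by
  obtain ⟨x, P⟩ := a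
  obtain ⟨y, Q⟩ := b
  change x ≤ y at h
  obtain rfl : PrimeSpectrum.comap (X.res h) Q = P := hp
  refine ⟨RingHom.injective _, fun z => ?_⟩
  obtain ⟨t, rfl⟩ := IsLocalRing.residue_surjective z
  obtain ⟨t', rfl⟩ := (bijective_localRingHom hX h Q.asIdeal).2 t
  exact ⟨IsLocalRing.residue _ t', IsLocalRing.ResidueField.map_residue _ _⟩

end Schematic

end Groth.Agent.SchFinLib
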