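import Groth.Agent.SchFinLib.Points

/-! Geometric points of a schematic finite space. -/

set_option autoImplicit false

open TensorProduct

namespace Groth.Agent.SchFinLib

open SchFin

universe u

variable {X : RSpace.{u}}

section Crit

variable {R S : Type u} [CommRing R] [CommRing S] {g : R →+* S} {M N : Type u}
  [AddCommGroup M] [AddCommGroup N] [Module R M] [Module S N] {f : M →ₛₗ[g] N}

theorem IsBCAlong.of_subsingleton
    (h : letI := g.toAlgebra; Subsingleton (S ⊗[R] M)) [Subsingleton N] : IsBCAlong g f := by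
  letI := g.toAlgebra
  haveI : Subsingleton (S ⊗[R] M) := h
  exact IsBCAlong.of_equiv ⟨LinearEquiv.ofSubsingleton _ _, fun _ => Subsingleton.elim _ _⟩

theorem IsBCAlong.of_bijective
    (hg : letI := g.toAlgebra; ∀ b : S, (1 : S) ⊗ₜ[R] b = b ⊗ₜ[R] 1)
    (hf : Function.Bijective f) : IsBCAlong g f := by
  letI : Algebra R S := g.toAlgebra
  letI : Module R N := Module.compHom N g
  haveI : IsScalarTower R S N := IsScalarTower.of_algebraMap_smul fun _ _ => rfl
  haveI : Algebra.IsEpi R S := (Algebra.isEpi_iff_forall_one_tmul_eq R S).2 hg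
  let fl₀ : M →ₗ[R] N := { toFun := f, map_add' := f.map_add, map_smul' := f.map_smulₛₗ }
  let fl : M ≃ₗ[R] N := LinearEquiv.ofBijective fl₀ hf
  refine IsBCAlong.of_equiv ⟨(TensorProduct.AlgebraTensorModule.congr (LinearEquiv.refl S S) fl).trans
    (TensorProduct.lid' R S N), fun m => ?_⟩
  rw [LinearEquiv.trans_apply, TensorProduct.AlgebraTensorModule.congr_tmul,
    TensorProduct.lid'_apply_tmul]
  exact (one_smul S (f m) :)

end Crit

section FieldPoint

variable {Ω : Type u} [Field Ω]

theorem isFinSp_point : (RSpace.point Ω).IsFinSp :=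
  ⟨fun _ => inferInstanceAs (IsNoetherianRing Ω), fun _ _ _ => RingHom.Flat.id Ω⟩

theorem subsingleton_H_of_isEmpty {Y : RSpace.{u}} {U : Set Y.pt} {R : Type u} [CommRing R]
    (φ : Coef Y U R) (M : OMod Y) (n : ℕ) (h : IsEmpty (Chain U n)) :
    Subsingleton (H φ M n) := by
  haveI : Subsingleton (Cochain φ M n) := ⟨fun a b => funext fun σ => h.elim σ⟩
  exact ((Submodule.mkQ_surjective
    ((cobdry φ M n).comap (cocycles φ M n).subtype))).subsingleton

theorem isEmpty_chain_of_subsingleton {Y : RSpace.{u}} [Subsingleton Y.pt] (U : Set Y.pt) (n : ℕ) :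
    IsEmpty (Chain U (n + 1)) := by
  refine ⟨fun σ => ?_⟩
  have h : σ ⟨0, by omega⟩ = σ ⟨1, by omega⟩ := Subsingleton.elim _ _
  exact absurd (congrArg Fin.val (σ.injective h)) (by simp)

theorem isEmpty_chain_of_empty {Y : RSpace.{u}} (U : Set Y.pt) (hU : U = ∅) (n : ℕ) :
    IsEmpty (Chain U n) := by
  refine ⟨fun σ => ?_⟩
  exact Set.eq_empty_iff_forall_notMem.1 hU _ (σ 0).2

variable {R : Type u} [CommRing R] {U : Set (RSpace.point Ω).pt}

/-- An element of the field as a degree zero class over a set of points of the field point. -/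
def fieldClass (φ : Coef (RSpace.point Ω) U R) (c : Ω) : H φ (RSpace.point Ω).str 0 :=
  mk0 φ _ ⟨fun _ => c, fun _ _ _ => rfl⟩

theorem fieldClass_bijective (φ : Coef (RSpace.point Ω) U R) (h : PUnit.unit ∈ U) :
    Function.Bijective (fieldClass φ) := by
  refine mk0_bijective.comp ⟨fun c c' hc => ?_, fun t => ?_⟩
  · exact congrFun (congrArg Subtype.val hc) ⟨PUnit.unit, h⟩
  · refine ⟨t.1 ⟨PUnit.unit, h⟩, Subtype.ext (funext fun q => ?_)⟩
    exact congrArg t.1 (Subtype.ext (rfl : PUnit.unit = q.1))

theorem fieldClass_smul (φ : Coef (RSpace.point Ω) U R) (h : PUnit.unit ∈ U) (a : R) (c : Ω) :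
    fieldClass φ (@HMul.hMul Ω Ω Ω _ (φ.map ⟨PUnit.unit, h⟩ a) c) = a • fieldClass φ c := by
  refine mk0_smul a _ _ fun q => ?_
  obtain rfl : q = ⟨PUnit.unit, h⟩ := Subtype.ext rfl
  rfl

theorem fieldClass_add (φ : Coef (RSpace.point Ω) U R) (c c' : Ω) :
    fieldClass φ (c + c') = fieldClass φ c + fieldClass φ c' :=
  mk0_add (M := (RSpace.point Ω).str) (φ := φ) ⟨fun _ => c, fun _ _ _ => rfl⟩ ⟨fun _ => c', fun _ _ _ => rfl⟩

end FieldPoint

theorem comap_ne_ker (hX : X.IsSchematic) {Ω : Type u} [Field Ω] [IsAlgClosed Ω]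
    (ξ : GeomPt X Ω) {x' : X.pt} (hx : ξ.base < x') (P : Ideal (X.ring x')) [P.IsPrime] :
    P.comap (X.res hx.le) ≠ RingHom.ker ξ.toField := by
  intro hP
  letI := (X.res hx.le).toAlgebra
  letI : Algebra (X.ring ξ.base) Ω := ξ.toField.toAlgebra
  -- the schematic condition gives `O_x' ⊗ Ω = 0`
  obtain ⟨e, -⟩ := IsBCAlong.exists_equiv
    (ξ.isSchematic.2.2 0 PUnit.unit PUnit.unit le_rfl ξ.base x' hx.le).2
  have hmem : PUnit.unit ∈ ξ.hom.wedge PUnit.unit ξ.base := ⟨le_refl _, le_refl _⟩
  haveI := subsingleton_H_of_isEmpty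
    (Coef.ofHom ξ.hom x' (ξ.hom.wedge PUnit.unit x') (ξ.hom.wedge_subset_pre _ _))
    (RSpace.point Ω).str 0 (isEmpty_chain_of_empty _ (Set.eq_empty_of_forall_notMem
      (fun q hq => hx.not_ge hq.2)) 0)
  let φ := Coef.ofHom ξ.hom ξ.base (ξ.hom.wedge PUnit.unit ξ.base) (ξ.hom.wedge_subset_pre _ _)
  let L : Ω ≃ₗ[X.ring ξ.base] H φ (RSpace.point Ω).str 0 := LinearEquiv.ofBijective
    { toFun := fieldClass φ
      map_add' := fieldClass_add φ
      map_smul' := fun a c => by
        refine Eq.trans ?_ (fieldClass_smul φ hmem a c)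
        exact congrArg (fun t => fieldClass φ (ξ.toField t * c)) (X.res_self _ a).symm }
    (fieldClass_bijective φ hmem)
  have hzero : (1 : X.ring x') ⊗ₜ[X.ring ξ.base] (1 : Ω) = 0 := by
    apply (LinearEquiv.lTensor (X.ring x') L).injective
    apply e.injective
    exact Subsingleton.elim _ _
  -- but there is an algebra map `O_x' → Ω`
  let lr := RingEquiv.ofBijective _ (bijective_localRingHom hX hx.le P)
  let g : X.ring x' →+* Ω :=
    (IsLocalization.lift (M := (P.comap (X.res hx.le)).primeCompl) (g := ξ.toField)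
      (fun a => isUnit_iff_ne_zero.2 fun h => a.2 (hP.symm.le (RingHom.mem_ker.2 h)))).comp
      (lr.symm.toRingHom.comp (algebraMap (X.ring x') (Localization.AtPrime P)))
  have hg : ∀ a, g (X.res hx.le a) = ξ.toField a := fun a => by
    have h1 : lr.symm (algebraMap (X.ring x') (Localization.AtPrime P) (X.res hx.le a)) =
        algebraMap (X.ring ξ.base) _ a := by
      rw [RingEquiv.symm_apply_eq]
      exact (Localization.localRingHom_to_map _ P (X.res hx.le) rfl a).symm
    change IsLocalization.lift _ (lr.symm _) = _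
    rw [h1]
    exact IsLocalization.lift_eq _ _
  have := congrArg (Algebra.TensorProduct.productMap
    ({ g with commutes' := hg } : X.ring x' →ₐ[X.ring ξ.base] Ω)
    (AlgHom.id (X.ring ξ.base) Ω)) hzero
  rw [Algebra.TensorProduct.productMap_apply_tmul, map_one, map_one, mul_one, map_zero] at this
  exact one_ne_zero this

/-- The morphism from a field point attached to a pair and a map of its residue field. -/
noncomputable def pairHom {Ω : Type u} [Field Ω] (a : X.Pair) (φ : a.κ →+* Ω) :
    Hom (RSpace.point Ω) X where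
  fn _ := a.1
  mono _ _ _ := le_refl _
  app _ := φ.comp (algebraMap (X.ring a.1) a.κ)
  compat _ b := congrArg (fun t => φ (algebraMap (X.ring a.1) a.κ t)) (X.res_self _ b).symm

theorem pairHom_isSchematic (hX : X.IsSchematic) (hff : FFHyp X) {Ω : Type u} [Field Ω]
    (a : X.Pair) (ha : ∀ b : X.Pair, X.PairRel a b → b.1 ≤ a.1) (φ : a.κ →+* Ω) :
    (pairHom a φ).IsSchematic := by
  haveI : Subsingleton (RSpace.point Ω).pt := inferInstanceAs (Subsingleton PUnit)
  refine ⟨isFinSp_point, hX.1, fun n x x' hx y y' hy => ⟨?_, ?_⟩⟩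
  · obtain rfl : x = x' := Subsingleton.elim _ _
    refine IsBCAlong.of_bijective ?_ ?_
    · letI := ((RSpace.point Ω).res hx).toAlgebra
      intro b
      haveI : Algebra.IsEpi ((RSpace.point Ω).ring x) ((RSpace.point Ω).ring x) :=
        Algebra.isEpi_of_surjective_algebraMap _ _ fun t => ⟨t, rfl⟩
      exact (Algebra.isEpi_iff_forall_one_tmul_eq _ _).1 this b
    · convert Function.bijective_id using 1
      funext t
      obtain ⟨c, rfl⟩ := Submodule.mkQ_surjective _ t
      rfl
  · letI := (X.res hy).toAlgebra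
    let φy := Coef.ofHom (pairHom a φ) y ((pairHom a φ).wedge x y)
      ((pairHom a φ).wedge_subset_pre _ _)
    let φy' := Coef.ofHom (pairHom a φ) y' ((pairHom a φ).wedge x y')
      ((pairHom a φ).wedge_subset_pre _ _)
    by_cases hy' : y' ≤ a.1
    · refine IsBCAlong.of_bijective (fun b => one_tmul_eq hX hy b) ?_
      cases n with
      | zero =>
        have hm : PUnit.unit ∈ (pairHom a φ).wedge x y := ⟨le_refl _, hy.trans hy'⟩
        have hm' : PUnit.unit ∈ (pairHom a φ).wedge x y' := ⟨le_refl _, hy'⟩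
        refine (Function.Bijective.of_comp_iff _ (fieldClass_bijective φy hm)).1 ?_
        exact fieldClass_bijective φy' hm'
      | succ n =>
        haveI := subsingleton_H_of_isEmpty φy (RSpace.point Ω).str (n + 1)
          (isEmpty_chain_of_subsingleton _ n)
        haveI := subsingleton_H_of_isEmpty φy' (RSpace.point Ω).str (n + 1)
          (isEmpty_chain_of_subsingleton _ n)
        exact ⟨fun _ _ _ => Subsingleton.elim _ _, fun b => ⟨0, Subsingleton.elim _ _⟩⟩
    · haveI := subsingleton_H_of_isEmpty φy' (RSpace.point Ω).str n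
        (isEmpty_chain_of_empty _ (Set.eq_empty_of_forall_notMem fun q hq => hy' hq.2) n)
      refine IsBCAlong.of_subsingleton ?_
      change Subsingleton (X.ring y' ⊗[X.ring y] H φy (RSpace.point Ω).str n)
      by_cases hyx : y ≤ a.1
      · cases n with
        | succ n =>
          haveI := subsingleton_H_of_isEmpty φy (RSpace.point Ω).str (n + 1)
            (isEmpty_chain_of_subsingleton _ n)
          infer_instance
        | zero =>
          have hm : PUnit.unit ∈ (pairHom a φ).wedge x y := ⟨le_refl _, hyx⟩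
          let gy : X.ring y →+* Ω := (φ.comp (algebraMap (X.ring a.1) a.κ)).comp (X.res hyx)
          letI : Algebra (X.ring y) Ω := gy.toAlgebra
          let L : Ω ≃ₗ[X.ring y] H φy (RSpace.point Ω).str 0 := LinearEquiv.ofBijective
            { toFun := fieldClass φy
              map_add' := fieldClass_add φy
              map_smul' := fun b c => by
                exact fieldClass_smul φy hm b c }
            (fieldClass_bijective φy hm)
          suffices Subsingleton (X.ring y' ⊗[X.ring y] Ω) from
            (LinearEquiv.lTensor (X.ring y') L).symm.toEquiv.subsingleton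
          by_contra hne
          haveI := not_subsingleton_iff_nontrivial.1 hne
          obtain ⟨𝔮⟩ := (inferInstance : Nonempty (PrimeSpectrum (X.ring y' ⊗[X.ring y] Ω)))
          let p := PrimeSpectrum.comap
            (Algebra.TensorProduct.includeLeftRingHom : X.ring y' →+* X.ring y' ⊗[X.ring y] Ω) 𝔮
          have hp : PrimeSpectrum.comap (X.res hy) p = PrimeSpectrum.comap (X.res hyx) a.2 := by
            refine PrimeSpectrum.ext (Ideal.ext fun b => ?_)
            change (X.res hy b) ⊗ₜ[X.ring y] (1 : Ω) ∈ 𝔮.asIdeal ↔ X.res hyx b ∈ a.2.asIdeal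
            have hb : X.res hy b ⊗ₜ[X.ring y] (1 : Ω) = (1 : X.ring y') ⊗ₜ[X.ring y] gy b := by
              rw [show X.res hy b = b • (1 : X.ring y') from Algebra.algebraMap_eq_smul_one b,
                TensorProduct.smul_tmul]
              congr 1
              exact (mul_one _)
            rw [hb]
            constructor
            · intro h
              by_contra hn
              have hu : IsUnit (gy b) := isUnit_iff_ne_zero.2 fun h0 => hn (by
                have h1 : algebraMap (X.ring a.1) a.κ (X.res hyx b) = 0 :=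
                  (RingHom.injective φ) (h0.trans (map_zero φ).symm)
                exact (ker_algebraMap_κ a).le h1)
              exact 𝔮.isPrime.ne_top (Ideal.eq_top_of_isUnit_mem _ h
                (hu.map (Algebra.TensorProduct.includeRight :
                  Ω →ₐ[X.ring y] X.ring y' ⊗[X.ring y] Ω)))
            · intro h
              have h1 : gy b = 0 := by
                change φ (algebraMap _ _ (X.res hyx b)) = 0
                rw [show algebraMap (X.ring a.1) a.κ (X.res hyx b) = 0 from
                  (ker_algebraMap_κ a).ge h, map_zero]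
              rw [h1, TensorProduct.tmul_zero]
              exact zero_mem _
          exact hy' (ha ⟨y', p⟩ (pairRel_symm (pairRel_of_comap_eq hX hff hy hyx p a.2 hp)))
      · haveI := subsingleton_H_of_isEmpty φy (RSpace.point Ω).str n
          (isEmpty_chain_of_empty _ (Set.eq_empty_of_forall_notMem fun q hq => hyx hq.2) n)
        infer_instance

theorem existsUnique_geomPt (hX : X.IsSchematic) (hff : FFHyp X) (Ω : Type u) [Field Ω]
    [IsAlgClosed Ω] (a : X.Pair) (ha : ∀ b : X.Pair, X.PairRel a b → b.1 ≤ a.1) (φ : a.κ →+* Ω) :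
    ∃! ξ : GeomPt X Ω, (⟨ξ.base, ξ.toField⟩ : Σ x : X.pt, (X.ring x →+* Ω)) =
      ⟨a.1, φ.comp (algebraMap (X.ring a.1) a.κ)⟩ := by
  refine ⟨⟨pairHom a φ, pairHom_isSchematic hX hff a ha φ⟩, rfl, ?_⟩
  rintro ⟨⟨fn, mono, app, compat⟩, hs⟩ h
  obtain ⟨h1, h2⟩ := Sigma.mk.inj_iff.1 h
  obtain rfl : fn = fun _ => a.1 := funext fun _ => h1
  obtain rfl : app = fun _ => φ.comp (algebraMap (X.ring a.1) a.κ) :=
    funext fun _ => eq_of_heq h2
  rfl

end Groth.Agent.SchFinLib
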