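import Groth.Agent.SchFinLib.Basic
import Mathlib.RingTheory.Spectrum.Prime.RingHom

/-! Pairs, schematic points and geometric points of a schematic finite space. -/

set_option autoImplicit false

open TensorProduct

namespace Groth.Agent.SchFinLib

open SchFin

universe u

variable {X : RSpace.{u}}

theorem ringEquiv_resSect_mul (hX : X.IsSchematic) {s x y : X.pt} (hx : s ≤ x) (hy : s ≤ y) :
    letI := (X.res hx).toAlgebra
    letI := (X.res hy).toAlgebra
    ∃ e : X.ring x ⊗[X.ring s] X.ring y ≃+* X.sectRing (X.up x ∩ X.up y),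
      ∀ a b, e (a ⊗ₜ[X.ring s] b) =
        X.resSect x _ Set.inter_subset_left a * X.resSect y _ Set.inter_subset_right b := by
  letI := (X.res hx).toAlgebra
  letI := (X.res hy).toAlgebra
  obtain ⟨e, he⟩ := bijective_resSect_mul hX hx hy
  refine ⟨{ e with map_mul' := fun t t' => ?_ }, he⟩
  change e (t * t') = e t * e t'
  induction t with
  | zero => simp
  | add a b ha hb => simp [add_mul, ha, hb]
  | tmul a b =>
    induction t' with
    | zero => simp
    | add c d hc hd => simp [mul_add, hc, hd]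
    | tmul c d =>
      rw [Algebra.TensorProduct.tmul_mul_tmul, he, he, he, map_mul, map_mul]
      exact mul_mul_mul_comm ..

abbrev FFHyp (X : RSpace.{u}) : Prop :=
  ∀ s a b : X.pt, s ≤ a → s ≤ b → (X.up a ∩ X.up b).Nonempty →
    Module.FaithfullyFlat (X.sectRing (X.up a ∩ X.up b)) ((q : ↥(X.up a ∩ X.up b)) → X.ring q.1)

theorem comap_res_res {p q s : X.pt} (h : p ≤ q) (h' : q ≤ s) (P : PrimeSpectrum (X.ring s)) :
    PrimeSpectrum.comap (X.res h) (PrimeSpectrum.comap (X.res h') P) =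
      PrimeSpectrum.comap (X.res (h.trans h')) P :=
  PrimeSpectrum.ext (Ideal.ext fun a => iff_of_eq (congrArg (· ∈ P.asIdeal) (X.res_comp h h' a)))

theorem comap_res_self {p : X.pt} (P : PrimeSpectrum (X.ring p)) :
    PrimeSpectrum.comap (X.res (le_refl p)) P = P :=
  PrimeSpectrum.ext (Ideal.ext fun a => iff_of_eq (congrArg (· ∈ P.asIdeal) (X.res_self p a)))

theorem ker_algebraMap_κ (a : X.Pair) :
    RingHom.ker (algebraMap (X.ring a.1) a.κ) = a.2.asIdeal :=
  Ideal.ker_algebraMap_residueField _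

theorem pairRel_of_comap_eq (hX : X.IsSchematic) (hff : FFHyp X)
    {s x y : X.pt} (hx : s ≤ x) (hy : s ≤ y) (P : PrimeSpectrum (X.ring x))
    (Q : PrimeSpectrum (X.ring y))
    (hPQ : PrimeSpectrum.comap (X.res hx) P = PrimeSpectrum.comap (X.res hy) Q) :
    X.PairRel ⟨x, P⟩ ⟨y, Q⟩ := by
  let a₀ : X.Pair := ⟨s, PrimeSpectrum.comap (X.res hx) P⟩
  let a : X.Pair := ⟨x, P⟩
  let b : X.Pair := ⟨y, Q⟩
  let κa := RingEquiv.ofBijective _ (bijective_κMap hX a₀ a hx rfl)
  let κb : a₀.κ →+* b.κ := RSpace.Pair.κMap a₀ b hy hPQ.symm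
  let gx : X.ring x →+* b.κ := κb.comp (κa.symm.toRingHom.comp (algebraMap (X.ring x) a.κ))
  let gy : X.ring y →+* b.κ := algebraMap (X.ring y) b.κ
  have hgx : ∀ u, gx (X.res hx u) = gy (X.res hy u) := fun u => by
    have h1 : κa.symm (algebraMap (X.ring x) a.κ (X.res hx u)) = algebraMap (X.ring s) a₀.κ u := by
      rw [RingEquiv.symm_apply_eq]
      exact (Ideal.ResidueField.map_algebraMap _ _ _ _ u).symm
    change κb (κa.symm (algebraMap (X.ring x) a.κ (X.res hx u))) = _
    rw [h1]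
    exact Ideal.ResidueField.map_algebraMap _ _ _ _ u
  have hker : RingHom.ker gx = P.asIdeal := by
    refine (RingHom.ker_comp_of_injective _ (RingHom.injective κb)).trans ?_
    refine (RingHom.ker_comp_of_injective _ κa.symm.injective).trans ?_
    exact ker_algebraMap_κ a
  letI := (X.res hx).toAlgebra
  letI := (X.res hy).toAlgebra
  letI : Algebra (X.ring s) b.κ := (gy.comp (X.res hy)).toAlgebra
  let fx : X.ring x →ₐ[X.ring s] b.κ := { gx with commutes' := hgx }
  let fy : X.ring y →ₐ[X.ring s] b.κ := { gy with commutes' := fun _ => rfl }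
  obtain ⟨e, he⟩ := ringEquiv_resSect_mul hX hx hy
  let W := X.up x ∩ X.up y
  let g : X.sectRing W →+* b.κ :=
    (Algebra.TensorProduct.productMap fx fy).toRingHom.comp e.symm.toRingHom
  have hgl : ∀ u, g (X.resSect x W Set.inter_subset_left u) = gx u := fun u => by
    have := he u 1
    rw [map_one, mul_one] at this
    change Algebra.TensorProduct.productMap fx fy (e.symm _) = _
    rw [← this, RingEquiv.symm_apply_apply, Algebra.TensorProduct.productMap_apply_tmul, map_one,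
      mul_one]
    rfl
  have hgr : ∀ u, g (X.resSect y W Set.inter_subset_right u) = gy u := fun u => by
    have := he 1 u
    rw [map_one, one_mul] at this
    change Algebra.TensorProduct.productMap fx fy (e.symm _) = _
    rw [← this, RingEquiv.symm_apply_apply, Algebra.TensorProduct.productMap_apply_tmul, map_one,
      one_mul]
    rfl
  have hW : W.Nonempty := by
    by_contra hW
    have hsub : (1 : X.sectRing W) = 0 := Subtype.ext (funext fun q => absurd ⟨q.1, q.2⟩ hW)
    have := congrArg g hsub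
    rw [map_one, map_zero] at this
    exact one_ne_zero this
  haveI := hff s x y hx hy hW
  let 𝔭 : PrimeSpectrum (X.sectRing W) := ⟨RingHom.ker g, RingHom.ker_isPrime g⟩
  obtain ⟨𝔔, h𝔔⟩ :=
    PrimeSpectrum.comap_surjective_of_faithfullyFlat (B := (q : ↥W) → X.ring q.1) 𝔭
  obtain ⟨⟨q, r⟩, hr⟩ := (PrimeSpectrum.sigmaToPi_bijective (fun q : ↥W => X.ring q.1)).2 𝔔
  subst hr
  have hmem : ∀ t : X.sectRing W, t.1 q ∈ r.asIdeal ↔ g t = 0 := fun t =>
    iff_of_eq (congrArg (t ∈ PrimeSpectrum.asIdeal ·) h𝔔)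
  refine ⟨q.1, q.2.1, q.2.2, r, PrimeSpectrum.ext (Ideal.ext fun u => ?_),
    PrimeSpectrum.ext (Ideal.ext fun u => ?_)⟩
  · refine (hmem (X.resSect x W Set.inter_subset_left u)).trans ?_
    rw [hgl, ← RingHom.mem_ker, hker]
  · refine (hmem (X.resSect y W Set.inter_subset_right u)).trans ?_
    rw [hgr, ← RingHom.mem_ker]
    exact iff_of_eq (congrArg (u ∈ ·) (ker_algebraMap_κ b))

theorem pairRel_refl (a : X.Pair) : X.PairRel a a :=
  ⟨a.1, le_refl _, le_refl _, a.2, comap_res_self _, comap_res_self _⟩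

theorem pairRel_symm {a b : X.Pair} (h : X.PairRel a b) : X.PairRel b a := by
  obtain ⟨z, hx, hy, r, h1, h2⟩ := h
  exact ⟨z, hy, hx, r, h2, h1⟩

theorem pairRel_trans (hX : X.IsSchematic) (hff : FFHyp X) {a b c : X.Pair}
    (h : X.PairRel a b) (h' : X.PairRel b c) : X.PairRel a c := by
  obtain ⟨z, ha, hb, r, h1, h2⟩ := h
  obtain ⟨z', hb', hc, r', h3, h4⟩ := h'
  obtain ⟨w, hz, hz', t, e1, e2⟩ := pairRel_of_comap_eq hX hff hb hb' r r' (h2.trans h3.symm)
  change z ≤ w at hz
  change z' ≤ w at hz'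
  refine ⟨w, ha.trans hz, hc.trans hz', t, ?_, ?_⟩
  · rw [← comap_res_res ha hz]
    exact (congrArg _ e1).trans h1
  · rw [← comap_res_res hc hz']
    exact (congrArg _ e2).trans h4

theorem equivalence_pairRel (hX : X.IsSchematic) (hff : FFHyp X) : Equivalence X.PairRel :=
  ⟨pairRel_refl, pairRel_symm, pairRel_trans hX hff⟩

theorem existsUnique_max (hX : X.IsSchematic) (hff : FFHyp X) (c : X.SchPt) :
    ∃! a : X.Pair, Quot.mk X.PairRel a = c ∧
      ∀ b : X.Pair, Quot.mk X.PairRel b = c → b.1 ≤ a.1 := by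
  have eqv := equivalence_pairRel hX hff
  have key : ∀ {a b : X.Pair}, Quot.mk X.PairRel a = Quot.mk X.PairRel b → X.PairRel a b :=
    fun h => eqv.eqvGen_iff.1 (Quot.eqvGen_exact h)
  obtain ⟨a₁, rfl⟩ := Quot.exists_rep c
  obtain ⟨x, ⟨P, hP⟩, hmax⟩ := (Set.toFinite
    {x : X.pt | ∃ P, Quot.mk X.PairRel (⟨x, P⟩ : X.Pair) = Quot.mk X.PairRel a₁}).exists_maximal
    ⟨a₁.1, a₁.2, rfl⟩
  refine ⟨⟨x, P⟩, ⟨hP, fun b hb => ?_⟩, ?_⟩
  · obtain ⟨z, hx, hy, r, h1, h2⟩ := key (hP.trans hb.symm)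
    have hz : Quot.mk X.PairRel (⟨z, r⟩ : X.Pair) = Quot.mk X.PairRel a₁ :=
      (Quot.sound (r := X.PairRel) ⟨z, le_refl _, hx, r, comap_res_self r, h1⟩).trans hP
    exact hy.trans (hmax ⟨r, hz⟩ hx)
  · rintro ⟨x', P'⟩ ⟨hP', hmax'⟩
    obtain rfl : x' = x := le_antisymm (by
      obtain ⟨z, hx, hy, r, h1, h2⟩ := key (hP.trans hP'.symm)
      have hz : Quot.mk X.PairRel (⟨z, r⟩ : X.Pair) = Quot.mk X.PairRel a₁ :=
        (Quot.sound (r := X.PairRel) ⟨z, le_refl _, hx, r, comap_res_self r, h1⟩).trans hP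
      exact hy.trans (hmax ⟨r, hz⟩ hx)) (hmax' _ hP)
    obtain ⟨z, hx, hy, r, h1, h2⟩ := key (hP'.trans hP.symm)
    have hz : Quot.mk X.PairRel (⟨z, r⟩ : X.Pair) = Quot.mk X.PairRel a₁ :=
      (Quot.sound (r := X.PairRel) ⟨z, le_refl _, hx, r, comap_res_self r, h1⟩).trans hP'
    obtain rfl : z = x' := le_antisymm (hmax' _ hz) hx
    exact congrArg (Sigma.mk z) ((h1.symm.trans (comap_res_self r)).trans (h2.symm.trans (comap_res_self r)).symm)

end Groth.Agent.SchFinLib
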