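import Groth.Agent.SchFinLib.FEt
import Mathlib.RingTheory.Etale.Descent
import Mathlib.RingTheory.RingHom.FaithfullyFlat
import Mathlib.RingTheory.RingHom.Etale
import Mathlib.RingTheory.Finiteness.Descent
import Mathlib.RingTheory.Localization.Away.Basic
import Mathlib.LinearAlgebra.TensorProduct.Pi

/-! Quasi-coherent modules and algebras on an affine up-closed set of points. -/

set_option autoImplicit false

open TensorProduct

namespace Groth.Agent.SchFinLib

open SchFin

universe u

section Descent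

variable {Γ : Type u} [CommRing Γ] {ι : Type u} [Finite ι] {R : ι → Type u}
  [∀ i, CommRing (R i)] [∀ i, Algebra Γ (R i)] [Module.FaithfullyFlat Γ (∀ i, R i)]

theorem bijective_of_forall_lTensor {M N : Type u} [AddCommGroup M] [Module Γ M] [AddCommGroup N]
    [Module Γ N] (Φ : M →ₗ[Γ] N) (h : ∀ i, Function.Bijective (Φ.lTensor (R i))) :
    Function.Bijective Φ := by
  classical
  haveI := Fintype.ofFinite ι
  rw [← Module.FaithfullyFlat.lTensor_bijective_iff_bijective Γ (∀ i, R i) Φ]
  let eM := TensorProduct.piLeft Γ M R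
  let eN := TensorProduct.piLeft Γ N R
  have key : ∀ t, eN (Φ.lTensor (∀ i, R i) t) = fun i => Φ.lTensor (R i) (eM t i) := fun t => by
    funext i
    induction t with
    | zero => simp
    | tmul s m => simp [eM, eN]
    | add a b ha hb => simp only [map_add, Pi.add_apply, ha, hb]
  refine (Function.Bijective.of_comp_iff' eN.bijective _).1 ?_
  rw [show (⇑eN ∘ ⇑(Φ.lTensor (∀ i, R i))) = Pi.map (fun i => ⇑(Φ.lTensor (R i))) ∘ ⇑eM from
    funext key]
  exact (Function.Bijective.piMap h).comp eM.bijective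

/-- A factor of a finite product as an algebra over the product. -/
local instance evalAlgebra (i : ι) : Algebra (∀ j, R j) (R i) :=
  (Pi.evalRingHom R i).toAlgebra

local instance evalTower (i : ι) : IsScalarTower Γ (∀ j, R j) (R i) :=
  IsScalarTower.of_algebraMap_eq fun _ => rfl

theorem etale_eval (i : ι) : Algebra.Etale (∀ j, R j) (R i) := by
  classical
  haveI : IsLocalization.Away (Pi.single i 1 : ∀ j, R j) (R i) := by
    refine IsLocalization.away_of_isIdempotentElem (funext fun j => ?_)
      (Ideal.ext fun a => ?_) (fun r => ⟨Pi.single i r, Pi.single_eq_same i r⟩)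
    · rcases eq_or_ne j i with rfl | hne <;> simp [*]
    · rw [Ideal.mem_span_singleton']
      refine ⟨fun ha => ⟨a, funext fun j => ?_⟩, fun ⟨c, hc⟩ => ?_⟩
      · rcases eq_or_ne j i with rfl | hne
        · simp [show a j = 0 from ha]
        · simp [hne]
      · rw [← hc]
        change (c * (1 - Pi.single i (1 : R i) : ∀ j, R j)) i = 0
        simp
  exact Algebra.Etale.of_isLocalizationAway (Pi.single i 1 : ∀ j, R j)

variable (S : Type u) [CommRing S] [Algebra Γ S]

theorem exists_algEquiv_pi :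
    Nonempty ((∀ j, R j) ⊗[Γ] S ≃ₐ[∀ j, R j] ∀ i, R i ⊗[Γ] S) := by
  classical
  haveI := Fintype.ofFinite ι
  let Λ : (∀ j, R j) ⊗[Γ] S →ₐ[∀ j, R j] ∀ i, R i ⊗[Γ] S :=
    Algebra.TensorProduct.lift (Algebra.ofId _ _)
      (Pi.algHom Γ (fun i => R i ⊗[Γ] S) fun _ => Algebra.TensorProduct.includeRight)
      (fun _ _ => Commute.all _ _)
  have key : ∀ t, Λ t = TensorProduct.piLeft Γ S R t := fun t => by
    funext i
    induction t with
    | zero => simp
    | tmul s a =>
      change (algebraMap (∀ j, R j) (R i) s ⊗ₜ[Γ] (1 : S)) * ((1 : R i) ⊗ₜ[Γ] a) = _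
      rw [Algebra.TensorProduct.tmul_mul_tmul, mul_one, one_mul]
      simp [RingHom.algebraMap_toAlgebra]
    | add a b ha hb => simp only [map_add, Pi.add_apply, ha, hb]
  exact ⟨AlgEquiv.ofBijective Λ (by rw [funext key]; exact LinearEquiv.bijective _)⟩

theorem flat_of_forall (h : ∀ i, Module.Flat (R i) (R i ⊗[Γ] S)) : Module.Flat Γ S := by
  classical
  haveI := Fintype.ofFinite ι
  obtain ⟨e⟩ := exists_algEquiv_pi (Γ := Γ) (R := R) S
  haveI : ∀ i, Module.Flat (∀ j, R j) (R i ⊗[Γ] S) := fun i =>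
    haveI := etale_eval (R := R) i
    haveI := h i
    Module.Flat.trans (∀ j, R j) (R i) _
  haveI : Module.Flat (∀ j, R j) (∀ i, R i ⊗[Γ] S) :=
    Module.Flat.of_linearEquiv (DFinsupp.linearEquivFunOnFintype (R := ∀ j, R j)).symm
  haveI : Module.Flat (∀ j, R j) ((∀ j, R j) ⊗[Γ] S) :=
    Module.Flat.of_linearEquiv e.toLinearEquiv
  exact Module.Flat.of_flat_tensorProduct Γ S (∀ j, R j)

theorem finite_of_forall (h : ∀ i, Module.Finite (R i) (R i ⊗[Γ] S)) : Module.Finite Γ S := by
  classical
  haveI := Fintype.ofFinite ι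
  obtain ⟨e⟩ := exists_algEquiv_pi (Γ := Γ) (R := R) S
  haveI : ∀ i, Module.Finite (∀ j, R j) (R i ⊗[Γ] S) := fun i =>
    haveI := h i
    haveI : Module.Finite (∀ j, R j) (R i) :=
      Module.Finite.of_surjective (Algebra.linearMap (∀ j, R j) (R i))
        (fun r => ⟨Pi.single i r, Pi.single_eq_same i r⟩)
    Module.Finite.trans (R i) _
  haveI : Module.Finite (∀ j, R j) (∀ i, R i ⊗[Γ] S) := by exact Module.Finite.pi
  haveI : Module.Finite (∀ j, R j) ((∀ j, R j) ⊗[Γ] S) :=
    Module.Finite.equiv e.symm.toLinearEquiv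
  exact Module.Finite.of_finite_tensorProduct_of_faithfullyFlat (∀ j, R j)

theorem etale_of_forall (h : ∀ i, Algebra.Etale (R i) (R i ⊗[Γ] S)) : Algebra.Etale Γ S := by
  classical
  haveI := Fintype.ofFinite ι
  obtain ⟨e⟩ := exists_algEquiv_pi (Γ := Γ) (R := R) S
  haveI : ∀ i, Algebra.Etale (∀ j, R j) (R i ⊗[Γ] S) := fun i =>
    haveI := etale_eval (R := R) i
    haveI := h i
    Algebra.Etale.comp (∀ j, R j) (R i) _
  haveI : Algebra.Etale (∀ j, R j) ((∀ j, R j) ⊗[Γ] S) :=
    @Algebra.Etale.of_equiv (∀ j, R j) (∀ i, R i ⊗[Γ] S) ((∀ j, R j) ⊗[Γ] S) _ _ (Pi.algebra _ _) _ _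
      (by exact inferInstance) (by exact e.symm)
  exact Algebra.Etale.of_etale_tensorProduct_of_faithfullyFlat (∀ j, R j)

theorem faithfullyFlat_of_forall (h : ∀ i, Module.FaithfullyFlat (R i) (R i ⊗[Γ] S)) :
    Module.FaithfullyFlat Γ S := by
  classical
  haveI := Fintype.ofFinite ι
  haveI : Module.Flat Γ S := flat_of_forall (R := R) S fun i => inferInstance
  refine Module.FaithfullyFlat.of_comap_surjective fun 𝔭 => ?_
  obtain ⟨𝔮, h𝔮⟩ := PrimeSpectrum.comap_surjective_of_faithfullyFlat (B := ∀ j, R j) 𝔭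
  obtain ⟨⟨i, r⟩, rfl⟩ := (PrimeSpectrum.sigmaToPi_bijective R).2 𝔮
  obtain ⟨w, hw⟩ := PrimeSpectrum.comap_surjective_of_faithfullyFlat (B := R i ⊗[Γ] S) r
  refine ⟨PrimeSpectrum.comap
    (Algebra.TensorProduct.includeRight : S →ₐ[Γ] R i ⊗[Γ] S).toRingHom w, ?_⟩
  rw [← h𝔮]
  refine PrimeSpectrum.ext (Ideal.ext fun g => ?_)
  change Algebra.TensorProduct.includeRight (R := Γ) (A := R i) (algebraMap Γ S g) ∈ w.asIdeal ↔
    algebraMap Γ (R i) g ∈ r.asIdeal
  rw [AlgHom.commutes, ← hw]
  exact Iff.rfl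

end Descent

variable {X : RSpace.{u}}

section Counit

variable {U : Set X.pt}

/-- The inclusion of a point of the restricted space as a point of the whole restricted space. -/
abbrev toUniv (q : U) : (Set.univ : Set (X.restrict U).pt) := ⟨q, trivial⟩

/-- Global sections of the restricted space as sections over the subset. -/
def toSectRing : (X.restrict U).sectRing Set.univ →+* X.sectRing U where
  toFun a := ⟨fun q => a.1 (toUniv q), fun q q' h => a.2 (toUniv q) (toUniv q') h⟩
  map_one' := rfl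
  map_mul' _ _ := rfl
  map_zero' := rfl
  map_add' _ _ := rfl

theorem toSectRing_surjective : Function.Surjective (toSectRing (X := X) (U := U)) := fun a =>
  ⟨⟨fun q => a.1 q.1, fun q q' h => a.2 q.1 q'.1 h⟩, rfl⟩

theorem counit_bijective (hUa : (X.restrict U).IsAffine) (M : OMod X) (hM : M.IsQcoh) (q : U) :
    IsBCAlong (X.evalRing U q) (M.evalMod U q) := by
  have hMU : (M.restrict U).IsQcoh := fun p p' h => hM p.1 p'.1 h
  have hc := IsBCAlong.exists_equiv (hUa.2.2.1 (M.restrict U) hMU q)
  let R' := (X.restrict U).sectRing Set.univ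
  letI : Algebra R' (X.ring q.1) := ((X.restrict U).evalRing Set.univ (toUniv q)).toAlgebra
  letI : Algebra (X.sectRing U) (X.ring q.1) := (X.evalRing U q).toAlgebra
  obtain ⟨e, he⟩ := hc
  let fwd : M.sect U → (M.restrict U).sect Set.univ :=
    fun s => ⟨fun p => s.1 p.1, fun p p' h => s.2 p.1 p'.1 h⟩
  let bwd : (M.restrict U).sect Set.univ → M.sect U :=
    fun s => ⟨fun p => s.1 (toUniv p), fun p p' h => s.2 (toUniv p) (toUniv p') h⟩
  let F : X.ring q.1 ⊗[X.sectRing U] M.sect U →+
      X.ring q.1 ⊗[R'] (M.restrict U).sect Set.univ :=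
    TensorProduct.liftAddHom
      (AddMonoidHom.mk' (fun s => AddMonoidHom.mk' (fun m => s ⊗ₜ[R'] fwd m)
        (fun m m' => TensorProduct.tmul_add s (fwd m) (fwd m')))
        (fun s s' => AddMonoidHom.ext fun m => TensorProduct.add_tmul s s' (fwd m)))
      (fun r s m => by
        obtain ⟨r', rfl⟩ := toSectRing_surjective r
        change (X.evalRing U q (toSectRing r') * s) ⊗ₜ[R'] fwd m =
          s ⊗ₜ[R'] fwd (toSectRing r' • m)
        exact (TensorProduct.smul_tmul r' s (fwd m)))
  let G : X.ring q.1 ⊗[R'] (M.restrict U).sect Set.univ →+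
      X.ring q.1 ⊗[X.sectRing U] M.sect U :=
    TensorProduct.liftAddHom
      (AddMonoidHom.mk' (fun s => AddMonoidHom.mk' (fun m => s ⊗ₜ[X.sectRing U] bwd m)
        (fun m m' => TensorProduct.tmul_add s (bwd m) (bwd m')))
        (fun s s' => AddMonoidHom.ext fun m => TensorProduct.add_tmul s s' (bwd m)))
      (fun r s m => by
        change (X.evalRing U q (toSectRing r) * s) ⊗ₜ[X.sectRing U] bwd m =
          s ⊗ₜ[X.sectRing U] bwd (r • m)
        exact (TensorProduct.smul_tmul (toSectRing r) s (bwd m)))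
  have hGF : ∀ t, G (F t) = t := fun t => by
    induction t with
    | zero => simp
    | tmul s m => rfl
    | add a b ha hb => rw [map_add, map_add, ha, hb]
  have hFG : ∀ t, F (G t) = t := fun t => by
    induction t with
    | zero => simp
    | tmul s m => rfl
    | add a b ha hb => rw [map_add, map_add, ha, hb]
  let eF : X.ring q.1 ⊗[X.sectRing U] M.sect U → M.carrier q.1 := fun t => e (F t)
  let E : X.ring q.1 ⊗[X.sectRing U] M.sect U →ₗ[X.ring q.1] M.carrier q.1 :=
    { toFun := eF
      map_add' := fun a b => (congrArg e (map_add F a b)).trans (map_add e _ _)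
      map_smul' := fun c t => by
        have : F (c • t) = c • F t := by
          induction t with
          | zero => simp
          | tmul s m => rfl
          | add a b ha hb => rw [smul_add, map_add, ha, hb, map_add, smul_add]
        exact (congrArg e this).trans (LinearEquiv.map_smul e c (F t)) }
  have hE : Function.Bijective E :=
    e.bijective.comp ⟨Function.LeftInverse.injective hGF, fun t => ⟨G t, hFG t⟩⟩
  refine IsBCAlong.of_equiv ⟨LinearEquiv.ofBijective E hE, fun m => ?_⟩
  refine (he 1 (fwd m)).trans ?_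
  change @HSMul.hSMul (X.ring q.1) (M.carrier q.1) _ _ 1 (m.1 q) = m.1 q
  exact one_smul _ _

end Counit

section Sections

variable {U : Set X.pt}

theorem ff_evalPi (hff : Module.FaithfullyFlat (X.sectRing U) ((q : ↥U) → X.ring q.1)) :
    letI : ∀ q : U, Algebra (X.sectRing U) (X.ring q.1) := fun q => (X.evalRing U q).toAlgebra
    Module.FaithfullyFlat (X.sectRing U) ((q : ↥U) → X.ring q.1) := by
  letI : ∀ q : U, Algebra (X.sectRing U) (X.ring q.1) := fun q => (X.evalRing U q).toAlgebra
  convert hff using 2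
  exact Module.ext rfl

theorem isBCAlong_resSect (x : X.pt) (hU : U ⊆ X.up x) (hUa : (X.restrict U).IsAffine)
    (hff : Module.FaithfullyFlat (X.sectRing U) ((q : ↥U) → X.ring q.1)) (M : OMod X)
    (hM : M.IsQcoh) : IsBCAlong (X.resSect x U hU) (M.resSect x U hU) := by
  letI : ∀ q : U, Algebra (X.sectRing U) (X.ring q.1) := fun q => (X.evalRing U q).toAlgebra
  haveI := ff_evalPi hff
  letI : Algebra (X.ring x) (X.sectRing U) := (X.resSect x U hU).toAlgebra
  letI : Module (X.ring x) (M.sect U) := Module.compHom _ (X.resSect x U hU)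
  haveI : IsScalarTower (X.ring x) (X.sectRing U) (M.sect U) :=
    IsScalarTower.of_algebraMap_smul fun _ _ => rfl
  let f : M.carrier x →ₗ[X.ring x] M.sect U :=
    { toFun := M.resSect x U hU, map_add' := (M.resSect x U hU).map_add,
      map_smul' := (M.resSect x U hU).map_smulₛₗ }
  let Φ : X.sectRing U ⊗[X.ring x] M.carrier x →ₗ[X.sectRing U] M.sect U :=
    LinearMap.liftBaseChange (X.sectRing U) f
  refine IsBCAlong.of_equiv ⟨LinearEquiv.ofBijective Φ
    (bijective_of_forall_lTensor (R := fun q : U => X.ring q.1) Φ fun q => ?_),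
    fun m => ?_⟩
  rotate_left
  · change Φ ((1 : X.sectRing U) ⊗ₜ[X.ring x] m) = M.resSect x U hU m
    rw [LinearMap.liftBaseChange_tmul, one_smul]
    rfl
  obtain ⟨e₃, he₃⟩ := IsBCAlong.exists_equiv (counit_bijective hUa M hM q)
  letI : Algebra (X.ring x) (X.ring q.1) := (X.res (hU q.2)).toAlgebra
  haveI : IsScalarTower (X.ring x) (X.sectRing U) (X.ring q.1) :=
    IsScalarTower.of_algebraMap_eq fun _ => rfl
  obtain ⟨e₂, he₂⟩ := IsBCAlong.exists_equiv (hM x q.1 (hU q.2))
  let e₁ := TensorProduct.AlgebraTensorModule.cancelBaseChange (X.ring x) (X.sectRing U)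
    (X.ring q.1) (X.ring q.1) (M.carrier x)
  have key : ∀ t, e₃ (Φ.lTensor (X.ring q.1) t) = e₂ (e₁ t) := fun t => by
    induction t with
    | zero => exact (congrArg e₃ (map_zero _)).trans ((map_zero e₃).trans
        (((congrArg e₂ (map_zero e₁)).trans (map_zero e₂)).symm))
    | tmul s y =>
      induction y with
      | zero =>
        exact (congrArg e₃ ((congrArg _ (TensorProduct.tmul_zero _ s)).trans (map_zero _))).trans
          ((map_zero e₃).trans (((congrArg e₂ ((congrArg e₁ (TensorProduct.tmul_zero _ s)).trans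
            (map_zero e₁))).trans (map_zero e₂)).symm))
      | tmul a m =>
        rw [LinearMap.lTensor_tmul, TensorProduct.AlgebraTensorModule.cancelBaseChange_tmul]
        refine (he₃ s _).trans ((?_ : _ = _).trans (he₂ _ m).symm)
        rw [LinearMap.liftBaseChange_tmul]
        change s • (a.1 q • M.res (hU q.2) m) = (a.1 q * s) • M.res (hU q.2) m
        rw [smul_smul, mul_comm]
      | add a b ha hb =>
        simp only [TensorProduct.tmul_add, map_add] at ha hb ⊢
        exact congrArg₂ (· + ·) ha hb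
    | add a b ha hb =>
      simp only [map_add] at ha hb ⊢
      exact congrArg₂ (· + ·) ha hb
  refine (Function.Bijective.of_comp_iff' e₃.bijective _).1 ?_
  rw [show (⇑e₃ ∘ ⇑(Φ.lTensor (X.ring q.1))) = ⇑e₂ ∘ ⇑e₁ from funext key]
  exact e₂.bijective.comp e₁.bijective

/-- Sections of an algebra over a subset are its base change at each point. -/
theorem exists_sectEquiv (hUa : (X.restrict U).IsAffine) (A : Alg X) (hA : A.IsQcoh) (q : U) :
    letI := (A.sectMap U).toAlgebra
    letI := (X.evalRing U q).toAlgebra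
    Nonempty (X.ring q.1 ⊗[X.sectRing U] A.total.sectRing U ≃ₐ[X.ring q.1] A.carrier q.1) := by
  letI := (A.sectMap U).toAlgebra
  letI := (X.evalRing U q).toAlgebra
  letI : Algebra (X.sectRing U) (A.carrier q.1) :=
    ((algebraMap (X.ring q.1) (A.carrier q.1)).comp (X.evalRing U q)).toAlgebra
  haveI : IsScalarTower (X.sectRing U) (X.ring q.1) (A.carrier q.1) :=
    IsScalarTower.of_algebraMap_eq fun _ => rfl
  let ev : A.total.sectRing U →ₐ[X.sectRing U] A.carrier q.1 :=
    { A.total.evalRing U q with commutes' := fun _ => rfl }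
  let Λ : X.ring q.1 ⊗[X.sectRing U] A.total.sectRing U →ₐ[X.ring q.1] A.carrier q.1 :=
    Algebra.TensorProduct.lift (Algebra.ofId _ _) ev (fun _ _ => Commute.all _ _)
  obtain ⟨e, he⟩ := IsBCAlong.exists_equiv (counit_bijective hUa A.toMod hA q)
  let ι : A.total.sectRing U ≃ₗ[X.sectRing U] A.toMod.sect U :=
    { toFun := fun s => ⟨s.1, s.2⟩
      invFun := fun s => ⟨s.1, s.2⟩
      map_add' := fun _ _ => rfl
      map_smul' := fun r s => Subtype.ext (funext fun p =>
        (Algebra.smul_def (r.1 p) (show A.carrier p.1 from s.1 p)).symm)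
      left_inv := fun _ => rfl
      right_inv := fun _ => rfl }
  have key : ∀ t, Λ t = e (ι.lTensor (X.ring q.1) t) := fun t => by
    induction t with
    | zero => exact (map_zero Λ).trans (((congrArg e (map_zero _)).trans (map_zero e)).symm)
    | tmul s a =>
      exact ((Algebra.smul_def s (ev a)).symm.trans (he s (ι a)).symm)
    | add a b ha hb =>
      exact ((map_add Λ a b).trans (congrArg₂ (· + ·) ha hb)).trans
        ((map_add e _ _).symm.trans (congrArg e (map_add _ a b).symm))
  refine ⟨AlgEquiv.ofBijective Λ ?_⟩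
  rw [funext key]
  exact e.bijective.comp (ι.lTensor (X.ring q.1)).bijective

variable (hUa : (X.restrict U).IsAffine) (A : Alg X) (hA : A.IsQcoh)
  (hφ : Module.FaithfullyFlat (X.sectRing U) ((q : ↥U) → X.ring q.1))

include hUa hA hφ

theorem flat_iff :
    (∀ q : X.pt, q ∈ U → Module.Flat (X.ring q) (A.carrier q)) ↔ (A.sectMap U).Flat := by
  letI := (A.sectMap U).toAlgebra
  letI : ∀ q : U, Algebra (X.sectRing U) (X.ring q.1) := fun q => (X.evalRing U q).toAlgebra
  haveI := ff_evalPi hφ
  refine ⟨fun h => flat_of_forall (R := fun q : U => X.ring q.1) _ fun q => ?_, fun h q hq => ?_⟩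
  · obtain ⟨e⟩ := exists_sectEquiv hUa A hA q
    haveI := h q.1 q.2
    exact Module.Flat.of_linearEquiv e.toLinearEquiv
  · obtain ⟨e⟩ := exists_sectEquiv hUa A hA ⟨q, hq⟩
    haveI : Module.Flat (X.sectRing U) (A.total.sectRing U) := h
    exact Module.Flat.of_linearEquiv e.toLinearEquiv.symm

theorem finite_iff :
    (∀ q : X.pt, q ∈ U → Module.Finite (X.ring q) (A.carrier q)) ↔ (A.sectMap U).Finite := by
  letI := (A.sectMap U).toAlgebra
  letI : ∀ q : U, Algebra (X.sectRing U) (X.ring q.1) := fun q => (X.evalRing U q).toAlgebra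
  haveI := ff_evalPi hφ
  refine ⟨fun h => finite_of_forall (R := fun q : U => X.ring q.1) _ fun q => ?_, fun h q hq => ?_⟩
  · obtain ⟨e⟩ := exists_sectEquiv hUa A hA q
    haveI := h q.1 q.2
    exact Module.Finite.equiv e.toLinearEquiv.symm
  · obtain ⟨e⟩ := exists_sectEquiv hUa A hA ⟨q, hq⟩
    haveI : Module.Finite (X.sectRing U) (A.total.sectRing U) := h
    exact Module.Finite.equiv e.toLinearEquiv

theorem faithfullyFlat_iff :
    (∀ q : X.pt, q ∈ U → Module.FaithfullyFlat (X.ring q) (A.carrier q)) ↔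
      (A.sectMap U).FaithfullyFlat := by
  letI := (A.sectMap U).toAlgebra
  letI : ∀ q : U, Algebra (X.sectRing U) (X.ring q.1) := fun q => (X.evalRing U q).toAlgebra
  haveI := ff_evalPi hφ
  refine ⟨fun h => faithfullyFlat_of_forall (R := fun q : U => X.ring q.1) _ fun q => ?_,
    fun h q hq => ?_⟩
  · obtain ⟨e⟩ := exists_sectEquiv hUa A hA q
    haveI := h q.1 q.2
    exact Module.FaithfullyFlat.of_linearEquiv _ _ e.toLinearEquiv
  · obtain ⟨e⟩ := exists_sectEquiv hUa A hA ⟨q, hq⟩
    haveI : Module.FaithfullyFlat (X.sectRing U) (A.total.sectRing U) := h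
    exact Module.FaithfullyFlat.of_linearEquiv _ _ e.toLinearEquiv.symm

theorem etale_iff :
    (∀ q : X.pt, q ∈ U → Algebra.Etale (X.ring q) (A.carrier q)) ↔ (A.sectMap U).Etale := by
  letI := (A.sectMap U).toAlgebra
  letI : ∀ q : U, Algebra (X.sectRing U) (X.ring q.1) := fun q => (X.evalRing U q).toAlgebra
  haveI := ff_evalPi hφ
  refine ⟨fun h => etale_of_forall (R := fun q : U => X.ring q.1) _ fun q => ?_, fun h q hq => ?_⟩
  · obtain ⟨e⟩ := exists_sectEquiv hUa A hA q
    haveI := h q.1 q.2
    exact Algebra.Etale.of_equiv e.symm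
  · obtain ⟨e⟩ := exists_sectEquiv hUa A hA ⟨q, hq⟩
    haveI : Algebra.Etale (X.sectRing U) (A.total.sectRing U) := h
    exact Algebra.Etale.of_equiv e

end Sections

end Groth.Agent.SchFinLib
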