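import Groth.Agent.SchFinLib.Basic
import Mathlib.RingTheory.Etale.Pi
import Mathlib.RingTheory.TensorProduct.Pi
import Mathlib.CategoryTheory.Limits.Shapes.FiniteProducts
import Mathlib.CategoryTheory.Limits.Shapes.Pullback.HasPullback
import Mathlib.RingTheory.TensorProduct.Finite

/-! The category of étale covers of a finite ringed poset: quasi-coherence of algebras, finite
products, initial object and pushouts. -/

set_option autoImplicit false

open TensorProduct CategoryTheory Limits

namespace Groth.Agent.SchFinLib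

open SchFin

universe u

variable {X : RSpace.{u}}

theorem tensor_ringHom_ext {R S A T : Type*} [CommRing R] [CommRing S] [CommRing A] [CommRing T]
    [Algebra R S] [Algebra R A] {u v : S ⊗[R] A →+* T}
    (hl : ∀ s, u (s ⊗ₜ[R] 1) = v (s ⊗ₜ[R] 1)) (hr : ∀ a, u (1 ⊗ₜ[R] a) = v (1 ⊗ₜ[R] a)) :
    u = v := by
  refine RingHom.ext fun t => ?_
  induction t with
  | zero => simp
  | tmul s a =>
    have : s ⊗ₜ[R] a = (s ⊗ₜ[R] (1 : A)) * ((1 : S) ⊗ₜ[R] a) := by simp
    rw [this, map_mul, map_mul, hl, hr]
  | add a b ha hb => rw [map_add, map_add, ha, hb]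

/-- The comparison map `O_q ⊗[O_p] A_p → A_q`. -/
noncomputable def resAlg (A : Alg X) {p q : X.pt} (h : p ≤ q) :
    letI := (X.res h).toAlgebra
    X.ring q ⊗[X.ring p] A.carrier p →ₐ[X.ring q] A.carrier q :=
  letI := (X.res h).toAlgebra
  letI : Algebra (X.ring p) (A.carrier q) :=
    ((algebraMap (X.ring q) (A.carrier q)).comp (X.res h)).toAlgebra
  haveI : IsScalarTower (X.ring p) (X.ring q) (A.carrier q) :=
    IsScalarTower.of_algebraMap_eq fun _ => rfl
  Algebra.TensorProduct.lift (Algebra.ofId (X.ring q) (A.carrier q))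
    { A.res h with commutes' := fun a => A.res_algebraMap h a } (fun _ _ => Commute.all _ _)

theorem resAlg_tmul (A : Alg X) {p q : X.pt} (h : p ≤ q) (s : X.ring q) (a : A.carrier p) :
    letI := (X.res h).toAlgebra
    resAlg A h (s ⊗ₜ[X.ring p] a) = algebraMap (X.ring q) (A.carrier q) s * A.res h a := rfl

theorem resAlg_one_tmul (A : Alg X) {p q : X.pt} (h : p ≤ q) (a : A.carrier p) :
    letI := (X.res h).toAlgebra
    resAlg A h ((1 : X.ring q) ⊗ₜ[X.ring p] a) = A.res h a :=
  (resAlg_tmul A h 1 a).trans (by rw [map_one, one_mul])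

theorem isQcoh_iff (A : Alg X) :
    A.IsQcoh ↔ ∀ (p q : X.pt) (h : p ≤ q),
      letI := (X.res h).toAlgebra; Function.Bijective (resAlg A h) := by
  refine ⟨fun hA p q h => ?_, fun hA p q h => ?_⟩
  · letI := (X.res h).toAlgebra
    obtain ⟨e, he⟩ := IsBCAlong.exists_equiv (hA p q h)
    have key : ∀ t, resAlg A h t = e t := fun t => by
      induction t with
      | zero => exact (map_zero _).trans (map_zero e).symm
      | tmul s a =>
        exact ((resAlg_tmul A h s a).trans (Algebra.smul_def s (A.res h a)).symm).trans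
          (he s a).symm
      | add a b ha hb =>
        exact ((map_add (resAlg A h) a b).trans (congrArg₂ (· + ·) ha hb)).trans (map_add e a b).symm
    exact ⟨fun a b hab => e.injective ((key a).symm.trans (hab.trans (key b))),
      fun b => ⟨e.symm b, (key _).trans (e.apply_symm_apply b)⟩⟩
  · letI := (X.res h).toAlgebra
    exact IsBCAlong.of_equiv (f := A.toMod.res h)
      ⟨LinearEquiv.ofBijective (resAlg A h).toLinearMap (hA p q h),
        fun a => resAlg_one_tmul A h a⟩

/-- The map on `O_q ⊗[O_p] -` induced by an algebra morphism. -/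
noncomputable def baseHom {A B : Alg X} (f : A ⟶ B) {p q : X.pt} (h : p ≤ q) :
    letI := (X.res h).toAlgebra
    X.ring q ⊗[X.ring p] A.carrier p →ₐ[X.ring q] X.ring q ⊗[X.ring p] B.carrier p :=
  letI := (X.res h).toAlgebra
  Algebra.TensorProduct.map (AlgHom.id _ _) (f.app p)

theorem baseHom_tmul {A B : Alg X} (f : A ⟶ B) {p q : X.pt} (h : p ≤ q) (s : X.ring q)
    (a : A.carrier p) :
    letI := (X.res h).toAlgebra
    baseHom f h (s ⊗ₜ[X.ring p] a) = s ⊗ₜ[X.ring p] f.app p a := rfl

theorem resAlg_naturality {A B : Alg X} (f : A ⟶ B) {p q : X.pt} (h : p ≤ q) :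
    letI := (X.res h).toAlgebra
    ∀ t, resAlg B h (baseHom f h t) = f.app q (resAlg A h t) := by
  intro t
  letI := (X.res h).toAlgebra
  induction t with
  | zero => simp
  | tmul s a => rw [baseHom_tmul, resAlg_tmul, resAlg_tmul, map_mul, AlgHom.commutes, f.compat]
  | add a b ha hb => simp only [map_add, ha, hb]

theorem comp_app {A B C : Alg X} (f : A ⟶ B) (g : B ⟶ C) (p : X.pt) (a : A.carrier p) :
    (f ≫ g).app p a = g.app p (f.app p a) := rfl

theorem id_app (A : Alg X) (p : X.pt) (a : A.carrier p) :
    (𝟙 A : A ⟶ A).app p a = a := rfl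

theorem fet_hom_ext {A B : FEt X} (f g : A ⟶ B)
    (h : ∀ (p : X.pt) (a : A.obj.carrier p), f.hom.app p a = g.hom.app p a) : f = g :=
  ObjectProperty.hom_ext _ (Alg.hom_ext _ _ fun p => AlgHom.ext (h p))

theorem fet_isIso_of_bijective {A B : FEt X} (f : A ⟶ B)
    (h : ∀ p, Function.Bijective (f.hom.app p)) : IsIso f := by
  let e := fun p => AlgEquiv.ofBijective (f.hom.app p) (h p)
  let g : B.obj ⟶ A.obj :=
    ⟨fun p => (e p).symm.toAlgHom, fun {p q} hpq b => by
      obtain ⟨a, rfl⟩ := (e p).surjective b
      change A.obj.res hpq ((e p).symm ((e p) a)) = (e q).symm (B.obj.res hpq (f.hom.app p a))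
      rw [AlgEquiv.symm_apply_apply, f.hom.compat]
      exact ((e q).symm_apply_apply _).symm⟩
  exact ⟨ObjectProperty.homMk g, fet_hom_ext _ _ fun p a => (e p).symm_apply_apply a,
    fet_hom_ext _ _ fun p b => (e p).apply_symm_apply b⟩

section Pi

variable {ι : Type} (A : ι → Alg X)

/-- Pointwise product of algebras. -/
def piAlg : Alg X where
  carrier p := ∀ i, (A i).carrier p
  res {p q} h := Pi.ringHom fun i => ((A i).res h).comp (Pi.evalRingHom _ i)
  res_algebraMap h a := funext fun i => (A i).res_algebraMap h a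
  res_self p b := funext fun i => (A i).res_self p (b i)
  res_comp h h' b := funext fun i => (A i).res_comp h h' (b i)

/-- Projection from the pointwise product. -/
def piProj (i : ι) : piAlg A ⟶ A i :=
  ⟨fun p => Pi.evalAlgHom (X.ring p) (fun i => (A i).carrier p) i, fun _ _ => rfl⟩

theorem piAlg_isQcoh [Finite ι] (hA : ∀ i, (A i).IsQcoh) : (piAlg A).IsQcoh := by
  classical
  haveI := Fintype.ofFinite ι
  rw [isQcoh_iff]
  intro p q h
  letI := (X.res h).toAlgebra
  let e : X.ring q ⊗[X.ring p] (∀ i, (A i).carrier p) ≃ₐ[X.ring q]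
      ∀ i, X.ring q ⊗[X.ring p] (A i).carrier p :=
    Algebra.TensorProduct.piRight (X.ring p) (X.ring q) (X.ring q) fun i => (A i).carrier p
  have key : ∀ t, resAlg (piAlg A) h t = fun i => resAlg (A i) h (e t i) := fun t => by
    funext i
    induction t with
    | zero =>
      change resAlg (piAlg A) h 0 i = resAlg (A i) h (e 0 i)
      rw [map_zero, map_zero]
      exact (map_zero (resAlg (A i) h)).symm
    | tmul s a => rfl
    | add a b ha hb =>
      refine (congrFun (map_add (resAlg (piAlg A) h) a b) i).trans ?_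
      refine (congrArg₂ (· + ·) ha hb).trans ?_
      refine (map_add (resAlg (A i) h) _ _).symm.trans ?_
      exact congrArg (resAlg (A i) h) (congrFun (map_add e a b) i).symm
  rw [show ⇑(resAlg (piAlg A) h) = (Pi.map fun i => resAlg (A i) h) ∘ e from funext key]
  refine Function.Bijective.comp ?_ e.bijective
  exact Function.Bijective.piMap fun i => (isQcoh_iff _).1 (hA i) p q h

theorem piAlg_isEtCover [Finite ι] (hA : ∀ i, (A i).IsEtCover) : (piAlg A).IsEtCover := by
  refine ⟨piAlg_isQcoh A fun i => (hA i).1, fun p => ⟨?_, ?_⟩⟩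
  · haveI := fun i => ((hA i).2 p).1
    exact inferInstanceAs (Module.Finite (X.ring p) (∀ i, (A i).carrier p))
  · haveI := fun i => ((hA i).2 p).2
    exact inferInstanceAs (Algebra.Etale (X.ring p) (∀ i, (A i).carrier p))

end Pi

section PiFEt

variable {ι : Type} [Finite ι] (A : ι → FEt X)

/-- Product in the category of étale covers. -/
def piFEt : FEt X :=
  ⟨piAlg fun i => (A i).obj, piAlg_isEtCover _ fun i => (A i).property⟩

/-- The product fan. -/
def piFan : Fan A :=
  Fan.mk (piFEt A) fun i => ObjectProperty.homMk (piProj (fun i => (A i).obj) i)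

/-- The product fan is a limit. -/
def piFanIsLimit : IsLimit (piFan A) :=
  mkFanLimit _
    (fun s => ObjectProperty.homMk
      ⟨fun p => Pi.algHom (X.ring p) (fun i => (A i).obj.carrier p) fun i => (s.proj i).hom.app p,
        fun h b => funext fun i => (s.proj i).hom.compat h b⟩)
    (fun s i => fet_hom_ext _ _ fun _ _ => rfl)
    (fun s m hm => fet_hom_ext _ _ fun p a => funext fun i => by
      have := hm i
      exact congrArg (fun φ => φ.hom.app p a) this)

end PiFEt

instance hasFiniteProducts_fet : HasFiniteProducts (FEt X) :=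
  ⟨fun n => ⟨fun F => by
    haveI : HasLimit (Discrete.functor (F.obj ∘ Discrete.mk)) :=
      HasLimit.mk ⟨_, piFanIsLimit _⟩
    exact hasLimit_of_iso Discrete.natIsoFunctor.symm⟩⟩

section Initial

theorem str_isEtCover : (Alg.str X).IsEtCover := by
  refine ⟨?_, fun p => ⟨inferInstanceAs (Module.Finite (X.ring p) (X.ring p)),
    inferInstanceAs (Algebra.Etale (X.ring p) (X.ring p))⟩⟩
  rw [isQcoh_iff]
  intro p q h
  letI := (X.res h).toAlgebra
  let e : X.ring q ⊗[X.ring p] X.ring p ≃ₐ[X.ring q] X.ring q :=
    Algebra.TensorProduct.rid (X.ring p) (X.ring q) (X.ring q)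
  have key : ∀ t, resAlg (Alg.str X) h t = e t := fun t => by
    induction t with
    | zero => exact (map_zero _).trans (map_zero e).symm
    | tmul s a =>
      change s * X.res h a = e (s ⊗ₜ a)
      rw [Algebra.TensorProduct.rid_tmul, Algebra.smul_def, mul_comm]
      rfl
    | add a b ha hb =>
      exact ((map_add (resAlg (Alg.str X) h) a b).trans (congrArg₂ (· + ·) ha hb)).trans
        (map_add e a b).symm
  exact ⟨fun a b hab => e.injective ((key a).symm.trans (hab.trans (key b))),
    fun b => ⟨e.symm b, (key _).trans (e.apply_symm_apply b)⟩⟩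

/-- The structure algebra as an étale cover. -/
def strFEt (X : RSpace.{u}) : FEt X := ⟨Alg.str X, str_isEtCover⟩

/-- The unit morphism. -/
def strHom (A : FEt X) : strFEt X ⟶ A :=
  ObjectProperty.homMk ⟨fun p => Algebra.ofId (X.ring p) (A.obj.carrier p),
    fun h a => A.obj.res_algebraMap h a⟩

theorem strHom_eq (A : FEt X) (f : strFEt X ⟶ A) : f = strHom A :=
  fet_hom_ext _ _ fun p a => (f.hom.app p).commutes a

/-- The structure algebra is initial. -/
def strIsInitial : IsInitial (strFEt X) :=
  IsInitial.ofUniqueHom strHom strHom_eq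

instance hasInitial_fet : HasInitial (FEt X) := strIsInitial.hasInitial

end Initial

section Pushout

variable {A B C : Alg X} (f : A ⟶ B) (g : A ⟶ C)

/-- The pointwise pushout of algebras. -/
def PCar (p : X.pt) : Type u :=
  letI := (f.app p).toRingHom.toAlgebra
  letI := (g.app p).toRingHom.toAlgebra
  B.carrier p ⊗[A.carrier p] C.carrier p

noncomputable instance instCommRingPCar (p : X.pt) : CommRing (PCar f g p) := by
  unfold PCar; infer_instance

/-- The left inclusion. -/
noncomputable def inl (p : X.pt) : B.carrier p →+* PCar f g p :=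
  letI := (f.app p).toRingHom.toAlgebra
  letI := (g.app p).toRingHom.toAlgebra
  (Algebra.TensorProduct.includeLeftRingHom :
    B.carrier p →+* B.carrier p ⊗[A.carrier p] C.carrier p)

/-- The right inclusion. -/
noncomputable def inr (p : X.pt) : C.carrier p →+* PCar f g p :=
  letI := (f.app p).toRingHom.toAlgebra
  letI := (g.app p).toRingHom.toAlgebra
  (Algebra.TensorProduct.includeRight :
    C.carrier p →ₐ[A.carrier p] B.carrier p ⊗[A.carrier p] C.carrier p).toRingHom

theorem inl_app_eq_inr_app (p : X.pt) (a : A.carrier p) :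
    inl f g p (f.app p a) = inr f g p (g.app p a) := by
  letI := (f.app p).toRingHom.toAlgebra
  letI := (g.app p).toRingHom.toAlgebra
  change (algebraMap (A.carrier p) (B.carrier p) a) ⊗ₜ[A.carrier p] (1 : C.carrier p) =
    (1 : B.carrier p) ⊗ₜ[A.carrier p] (algebraMap (A.carrier p) (C.carrier p) a)
  rw [Algebra.algebraMap_eq_smul_one, Algebra.algebraMap_eq_smul_one, TensorProduct.smul_tmul]

theorem pcar_ext {p : X.pt} {T : Type*} [CommRing T] {u v : PCar f g p →+* T}
    (hl : u.comp (inl f g p) = v.comp (inl f g p)) (hr : u.comp (inr f g p) = v.comp (inr f g p)) :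
    u = v := by
  letI := (f.app p).toRingHom.toAlgebra
  letI := (g.app p).toRingHom.toAlgebra
  exact tensor_ringHom_ext (fun b => RingHom.congr_fun hl b) (fun c => RingHom.congr_fun hr c)

theorem exists_desc {p : X.pt} {T : Type*} [CommRing T] (u : B.carrier p →+* T)
    (v : C.carrier p →+* T) (h : ∀ a, u (f.app p a) = v (g.app p a)) :
    ∃ w : PCar f g p →+* T, w.comp (inl f g p) = u ∧ w.comp (inr f g p) = v := by
  letI := (f.app p).toRingHom.toAlgebra
  letI := (g.app p).toRingHom.toAlgebra
  letI : Algebra (A.carrier p) T := (u.comp (f.app p).toRingHom).toAlgebra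
  let u' : B.carrier p →ₐ[A.carrier p] T := { u with commutes' := fun _ => rfl }
  let v' : C.carrier p →ₐ[A.carrier p] T := { v with commutes' := fun a => (h a).symm }
  refine ⟨(Algebra.TensorProduct.productMap u' v').toRingHom, RingHom.ext fun b => ?_,
    RingHom.ext fun c => ?_⟩
  · exact (Algebra.TensorProduct.productMap_apply_tmul u' v' b 1).trans
      (by rw [map_one, mul_one]; rfl)
  · exact (Algebra.TensorProduct.productMap_apply_tmul u' v' 1 c).trans
      (by rw [map_one, one_mul]; rfl)

/-- The map out of the pointwise pushout. -/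
noncomputable def desc {p : X.pt} {T : Type*} [CommRing T] (u : B.carrier p →+* T)
    (v : C.carrier p →+* T) (h : ∀ a, u (f.app p a) = v (g.app p a)) : PCar f g p →+* T :=
  (exists_desc f g u v h).choose

theorem desc_inl {p : X.pt} {T : Type*} [CommRing T] (u : B.carrier p →+* T)
    (v : C.carrier p →+* T) (h : ∀ a, u (f.app p a) = v (g.app p a)) (b : B.carrier p) :
    desc f g u v h (inl f g p b) = u b :=
  RingHom.congr_fun (exists_desc f g u v h).choose_spec.1 b

theorem desc_inr {p : X.pt} {T : Type*} [CommRing T] (u : B.carrier p →+* T)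
    (v : C.carrier p →+* T) (h : ∀ a, u (f.app p a) = v (g.app p a)) (c : C.carrier p) :
    desc f g u v h (inr f g p c) = v c :=
  RingHom.congr_fun (exists_desc f g u v h).choose_spec.2 c

noncomputable instance instAlgebraPCar (p : X.pt) : Algebra (X.ring p) (PCar f g p) :=
  ((inl f g p).comp (algebraMap (X.ring p) (B.carrier p))).toAlgebra

theorem algebraMap_pcar (p : X.pt) (r : X.ring p) :
    algebraMap (X.ring p) (PCar f g p) r = inl f g p (algebraMap _ _ r) := rfl

theorem algebraMap_pcar' (p : X.pt) (r : X.ring p) :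
    algebraMap (X.ring p) (PCar f g p) r = inr f g p (algebraMap _ _ r) := by
  rw [algebraMap_pcar, ← (f.app p).commutes r, ← (g.app p).commutes r, inl_app_eq_inr_app]

theorem res_app_eq {p q : X.pt} (h : p ≤ q) (a : A.carrier p) :
    (inl f g q).comp (B.res h) (f.app p a) = (inr f g q).comp (C.res h) (g.app p a) := by
  change inl f g q (B.res h (f.app p a)) = inr f g q (C.res h (g.app p a))
  rw [f.compat, g.compat, inl_app_eq_inr_app]

/-- Restriction of the pointwise pushout. -/
noncomputable def pushRes {p q : X.pt} (h : p ≤ q) : PCar f g p →+* PCar f g q :=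
  desc f g ((inl f g q).comp (B.res h)) ((inr f g q).comp (C.res h)) (res_app_eq f g h)

theorem pushRes_inl {p q : X.pt} (h : p ≤ q) (b : B.carrier p) :
    pushRes f g h (inl f g p b) = inl f g q (B.res h b) :=
  desc_inl f g _ _ (res_app_eq f g h) b

theorem pushRes_inr {p q : X.pt} (h : p ≤ q) (c : C.carrier p) :
    pushRes f g h (inr f g p c) = inr f g q (C.res h c) :=
  desc_inr f g _ _ (res_app_eq f g h) c

/-- The pushout algebra. -/
noncomputable def pushAlg : Alg X where
  carrier := PCar f g
  res {p q} h := pushRes f g h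
  res_algebraMap h a := by
    rw [algebraMap_pcar, pushRes_inl, B.res_algebraMap]
    rfl
  res_self p x := by
    refine RingHom.congr_fun (pcar_ext f g (v := RingHom.id _) (RingHom.ext fun b => ?_)
      (RingHom.ext fun c => ?_)) x
    · exact (pushRes_inl ..).trans (congrArg (inl f g p) (B.res_self p b))
    · exact (pushRes_inr ..).trans (congrArg (inr f g p) (C.res_self p c))
  res_comp {p q s} h h' x := by
    refine RingHom.congr_fun (pcar_ext f g (u := RingHom.comp _ _) (RingHom.ext fun b => ?_)
      (RingHom.ext fun c => ?_)) x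
    · simp only [RingHom.comp_apply, pushRes_inl, B.res_comp]
    · simp only [RingHom.comp_apply, pushRes_inr, C.res_comp]

theorem pushAlg_res_inl {p q : X.pt} (h : p ≤ q) (b : B.carrier p) :
    (pushAlg f g).res h (inl f g p b) = inl f g q (B.res h b) := pushRes_inl f g h b

theorem pushAlg_res_inr {p q : X.pt} (h : p ≤ q) (c : C.carrier p) :
    (pushAlg f g).res h (inr f g p c) = inr f g q (C.res h c) := pushRes_inr f g h c

/-- The left inclusion of algebras. -/
noncomputable def inlHom : B ⟶ pushAlg f g :=
  ⟨fun p => { inl f g p with commutes' := fun _ => rfl }, fun h b => pushAlg_res_inl f g h b⟩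

/-- The right inclusion of algebras. -/
noncomputable def inrHom : C ⟶ pushAlg f g :=
  ⟨fun p => { inr f g p with commutes' := fun r => (algebraMap_pcar' f g p r).symm },
    fun h b => pushAlg_res_inr f g h b⟩

theorem pushAlg_isQcoh (hA : A.IsQcoh) (hB : B.IsQcoh) (hC : C.IsQcoh) :
    (pushAlg f g).IsQcoh := by
  rw [isQcoh_iff]
  intro p q h
  letI := (X.res h).toAlgebra
  let eB := AlgEquiv.ofBijective (resAlg B h) ((isQcoh_iff B).1 hB p q h)
  let eC := AlgEquiv.ofBijective (resAlg C h) ((isQcoh_iff C).1 hC p q h)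
  let u := (baseHom (inlHom f g) h).comp eB.symm.toAlgHom
  let v := (baseHom (inrHom f g) h).comp eC.symm.toAlgHom
  have hu : ∀ t, u (resAlg B h t) = baseHom (inlHom f g) h t :=
    fun t => congrArg _ (eB.symm_apply_apply t)
  have hv : ∀ t, v (resAlg C h t) = baseHom (inrHom f g) h t :=
    fun t => congrArg _ (eC.symm_apply_apply t)
  let G : PCar f g q →+* X.ring q ⊗[X.ring p] (pushAlg f g).carrier p :=
    desc f g u.toRingHom v.toRingHom fun a => by
      obtain ⟨t, rfl⟩ := ((isQcoh_iff A).1 hA p q h).2 a
      change u (f.app q (resAlg A h t)) = v (g.app q (resAlg A h t))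
      rw [← resAlg_naturality, ← resAlg_naturality, hu, hv]
      induction t with
      | zero => simp
      | tmul s a =>
        simp only [baseHom_tmul]
        exact congrArg (s ⊗ₜ[X.ring p] ·) (inl_app_eq_inr_app f g p a)
      | add a b ha hb => simp only [map_add, ha, hb]
  let G' : (pushAlg f g).carrier q →ₐ[X.ring q]
      X.ring q ⊗[X.ring p] (pushAlg f g).carrier p :=
    { G with commutes' := fun s => (desc_inl ..).trans (u.commutes s) }
  have h1 : G'.comp (resAlg (pushAlg f g) h) = AlgHom.id _ _ := by
    refine AlgHom.coe_ringHom_injective (tensor_ringHom_ext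
      (fun s => (G'.comp (resAlg (pushAlg f g) h)).commutes s) fun z => ?_)
    revert z
    suffices h' : ((G'.comp (resAlg (pushAlg f g) h)).toRingHom.comp
        (Algebra.TensorProduct.includeRight (R := X.ring p) (A := X.ring q)
          (B := (pushAlg f g).carrier p)).toRingHom) =
        (Algebra.TensorProduct.includeRight (R := X.ring p) (A := X.ring q)
          (B := (pushAlg f g).carrier p)).toRingHom from fun z => RingHom.congr_fun h' z
    refine pcar_ext f g (RingHom.ext fun b => ?_) (RingHom.ext fun c => ?_)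
    · change G (resAlg (pushAlg f g) h ((1 : X.ring q) ⊗ₜ[X.ring p] inl f g p b)) =
        (1 : X.ring q) ⊗ₜ[X.ring p] inl f g p b
      rw [resAlg_one_tmul, pushAlg_res_inl, desc_inl]
      change u (B.res h b) = _
      rw [← resAlg_one_tmul, hu]
      rfl
    · change G (resAlg (pushAlg f g) h ((1 : X.ring q) ⊗ₜ[X.ring p] inr f g p c)) =
        (1 : X.ring q) ⊗ₜ[X.ring p] inr f g p c
      rw [resAlg_one_tmul, pushAlg_res_inr, desc_inr]
      change v (C.res h c) = _
      rw [← resAlg_one_tmul, hv]
      rfl
  have h2 : ∀ d, resAlg (pushAlg f g) h (G' d) = d := fun d => by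
    refine RingHom.congr_fun (pcar_ext f g
      (u := (resAlg (pushAlg f g) h).toRingHom.comp G) (v := RingHom.id _)
      (RingHom.ext fun b => ?_) (RingHom.ext fun c => ?_)) d
    · obtain ⟨t, rfl⟩ := ((isQcoh_iff B).1 hB p q h).2 b
      change resAlg (pushAlg f g) h (G (inl f g q (resAlg B h t))) = inl f g q (resAlg B h t)
      rw [desc_inl]
      change resAlg (pushAlg f g) h (u (resAlg B h t)) = _
      rw [hu, resAlg_naturality]
      rfl
    · obtain ⟨t, rfl⟩ := ((isQcoh_iff C).1 hC p q h).2 c
      change resAlg (pushAlg f g) h (G (inr f g q (resAlg C h t))) = inr f g q (resAlg C h t)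
      rw [desc_inr]
      change resAlg (pushAlg f g) h (v (resAlg C h t)) = _
      rw [hv, resAlg_naturality]
      rfl
  exact ⟨Function.LeftInverse.injective (g := G') (fun t => AlgHom.congr_fun h1 t),
    fun d => ⟨G' d, h2 d⟩⟩

theorem pushAlg_isEtCover (hA : A.IsEtCover) (hB : B.IsEtCover) (hC : C.IsEtCover) :
    (pushAlg f g).IsEtCover := by
  refine ⟨pushAlg_isQcoh f g hA.1 hB.1 hC.1, fun p => ?_⟩
  letI := (f.app p).toRingHom.toAlgebra
  letI := (g.app p).toRingHom.toAlgebra
  haveI : IsScalarTower (X.ring p) (A.carrier p) (B.carrier p) :=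
    IsScalarTower.of_algebraMap_eq fun r => ((f.app p).commutes r).symm
  haveI : IsScalarTower (X.ring p) (A.carrier p) (C.carrier p) :=
    IsScalarTower.of_algebraMap_eq fun r => ((g.app p).commutes r).symm
  haveI := (hA.2 p).2
  haveI := (hB.2 p).1
  haveI := (hB.2 p).2
  haveI := (hC.2 p).1
  haveI := (hC.2 p).2
  haveI : Algebra.Etale (A.carrier p) (C.carrier p) :=
    Algebra.Etale.of_restrictScalars (X.ring p) _ _
  haveI : Module.Finite (A.carrier p) (C.carrier p) :=
    Module.Finite.of_restrictScalars_finite (X.ring p) _ _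
  haveI : IsScalarTower (X.ring p) (B.carrier p) (B.carrier p ⊗[A.carrier p] C.carrier p) :=
    TensorProduct.isScalarTower_left
  let e : (B.carrier p ⊗[A.carrier p] C.carrier p) ≃ₐ[X.ring p] (pushAlg f g).carrier p :=
    { RingEquiv.refl (B.carrier p ⊗[A.carrier p] C.carrier p) with commutes' := fun _ => rfl }
  haveI : Module.Finite (X.ring p) (B.carrier p ⊗[A.carrier p] C.carrier p) :=
    Module.Finite.trans (B.carrier p) _
  haveI : Algebra.Etale (X.ring p) (B.carrier p ⊗[A.carrier p] C.carrier p) :=
    Algebra.Etale.comp (X.ring p) (B.carrier p) _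
  exact ⟨Module.Finite.equiv e.toLinearEquiv, Algebra.Etale.of_equiv e⟩

end Pushout

section PushoutFEt

variable {A B C : FEt X} (f : A ⟶ B) (g : A ⟶ C)

/-- The pushout étale cover. -/
noncomputable def pushFEt : FEt X :=
  ⟨pushAlg f.hom g.hom, pushAlg_isEtCover _ _ A.property B.property C.property⟩

/-- The pushout cocone. -/
noncomputable def pushCocone : PushoutCocone f g :=
  PushoutCocone.mk (W := pushFEt f g) (ObjectProperty.homMk (inlHom f.hom g.hom))
    (ObjectProperty.homMk (inrHom f.hom g.hom))
    (fet_hom_ext _ _ fun p a => inl_app_eq_inr_app f.hom g.hom p a)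

theorem cond_apply (s : PushoutCocone f g) (p : X.pt) (a : A.obj.carrier p) :
    (s.inl.hom.app p).toRingHom (f.hom.app p a) = (s.inr.hom.app p).toRingHom (g.hom.app p a) :=
  congrArg (fun φ => φ.hom.app p a) s.condition

/-- The pointwise descent map of a cocone. -/
noncomputable def descPt (s : PushoutCocone f g) (p : X.pt) :
    PCar f.hom g.hom p →+* s.pt.obj.carrier p :=
  desc f.hom g.hom (s.inl.hom.app p).toRingHom (s.inr.hom.app p).toRingHom (cond_apply f g s p)

theorem descPt_inl (s : PushoutCocone f g) (p : X.pt) (b : B.obj.carrier p) :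
    descPt f g s p (inl f.hom g.hom p b) = s.inl.hom.app p b :=
  desc_inl f.hom g.hom _ _ (cond_apply f g s p) b

theorem descPt_inr (s : PushoutCocone f g) (p : X.pt) (c : C.obj.carrier p) :
    descPt f g s p (inr f.hom g.hom p c) = s.inr.hom.app p c :=
  desc_inr f.hom g.hom _ _ (cond_apply f g s p) c

/-- The descent morphism of a cocone. -/
noncomputable def pushDesc (s : PushoutCocone f g) : pushFEt f g ⟶ s.pt :=
  ObjectProperty.homMk
    ⟨fun p =>
      { descPt f g s p with
        commutes' := fun r => (descPt_inl f g s p _).trans ((s.inl.hom.app p).commutes r) },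
      fun {p q} h x => by
        refine RingHom.congr_fun (pcar_ext f.hom g.hom
          (u := (s.pt.obj.res h).comp (descPt f g s p))
          (v := (descPt f g s q).comp (pushRes f.hom g.hom h))
          (RingHom.ext fun b => ?_) (RingHom.ext fun c => ?_)) x
        · simp only [RingHom.comp_apply, descPt_inl, pushRes_inl]
          exact s.inl.hom.compat h b
        · simp only [RingHom.comp_apply, descPt_inr, pushRes_inr]
          exact s.inr.hom.compat h c⟩

/-- The pushout cocone is a colimit. -/
noncomputable def pushCoconeIsColimit : IsColimit (pushCocone f g) :=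
  PushoutCocone.IsColimit.mk _ (pushDesc f g)
    (fun s => fet_hom_ext _ _ fun p b => descPt_inl f g s p b)
    (fun s => fet_hom_ext _ _ fun p c => descPt_inr f g s p c)
    (fun s m h1 h2 => fet_hom_ext _ _ fun p x =>
      RingHom.congr_fun (pcar_ext f.hom g.hom
        (u := (m.hom.app p).toRingHom) (v := descPt f g s p)
        (RingHom.ext fun b =>
          (congrArg (fun φ => φ.hom.app p b) h1).trans (descPt_inl f g s p b).symm)
        (RingHom.ext fun c =>
          (congrArg (fun φ => φ.hom.app p c) h2).trans (descPt_inr f g s p c).symm)) x)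

end PushoutFEt

instance hasPushouts_fet : HasPushouts (FEt X) :=
  haveI : ∀ {A B C : FEt X} {f : A ⟶ B} {g : A ⟶ C}, HasColimit (span f g) :=
    fun {A B C f g} => HasColimit.mk ⟨_, pushCoconeIsColimit f g⟩
  hasPushouts_of_hasColimit_span _

end Groth.Agent.SchFinLib
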