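import Groth.Agent.SchFinLib.FEt
import Groth.Agent.SchFinLib.Conn
import Mathlib.RingTheory.Nakayama
import Mathlib.RingTheory.Smooth.Flat
import Mathlib.RingTheory.Flat.EquationalCriterion
import Mathlib.RingTheory.Finiteness.ModuleFinitePresentation
import Mathlib.RingTheory.Localization.Away.Lemmas
import Mathlib.RingTheory.Spectrum.Prime.FreeLocus

/-! Kernels and images of morphisms of étale covers. -/

set_option autoImplicit false

open TensorProduct CategoryTheory Limits

namespace Groth.Agent.SchFinLib

open SchFin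

universe u

section Ring

variable {A B : Type u} [CommRing A] [CommRing B] [Algebra A B] [Module.Finite A B]
  [Module.Projective A B]

theorem exists_dual_basis : ∃ (n : ℕ) (φ : Fin n → B →ₗ[A] A) (x : Fin n → B),
    ∀ b, b = ∑ i, φ i b • x i := by
  obtain ⟨n, π, hπ⟩ := Module.Finite.exists_fin' A B
  obtain ⟨s, hs⟩ := Module.projective_lifting_property π (LinearMap.id : B →ₗ[A] B) hπ
  refine ⟨n, fun i => (LinearMap.proj i).comp s, fun i => π (Pi.single i 1), fun b => ?_⟩
  have h : π (s b) = b := LinearMap.congr_fun hs b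
  conv_lhs => rw [← h, pi_eq_sum_univ' (s b)]
  rw [map_sum]
  simp_rw [map_smul]
  rfl

theorem exists_idem_ker : ∃ r : A, IsIdempotentElem r ∧
    RingHom.ker (algebraMap A B) = Ideal.span {r} := by
  obtain ⟨n, φ, x, hb⟩ := exists_dual_basis (A := A) (B := B)
  let τ : Ideal A := Ideal.span {a | ∃ (f : B →ₗ[A] A) (b : B), f b = a}
  have hle : (⊤ : Submodule A B) ≤ τ • ⊤ := fun b _ => by
    rw [hb b]
    exact Submodule.sum_mem _ fun i _ =>
      Submodule.smul_mem_smul (Ideal.subset_span ⟨φ i, b, rfl⟩) trivial
  obtain ⟨r, hr1, hr⟩ := Submodule.exists_sub_one_mem_and_smul_eq_zero_of_fg_of_le_smul τ ⊤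
    Module.Finite.fg_top hle
  have hker : ∀ k, algebraMap A B k = 0 → ∀ t ∈ τ, k * t = 0 := by
    intro k hk t ht
    induction ht using Submodule.span_induction with
    | mem a ha =>
      obtain ⟨f, b, rfl⟩ := ha
      rw [← smul_eq_mul, ← map_smul, Algebra.smul_def, hk, zero_mul, map_zero]
    | zero => rw [mul_zero]
    | add a b _ _ h1 h2 => rw [mul_add, h1, h2, add_zero]
    | smul a b _ h => rw [smul_eq_mul, mul_left_comm, h, mul_zero]
  have hr0 : algebraMap A B r = 0 := by
    rw [Algebra.algebraMap_eq_smul_one, hr 1 trivial]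
  have hidem : r * r = r := by
    have := hker r hr0 _ hr1
    rwa [mul_sub, mul_one, sub_eq_zero] at this
  refine ⟨r, hidem, le_antisymm (fun k hk => ?_) ?_⟩
  · have := hker k hk _ hr1
    rw [mul_sub, mul_one, sub_eq_zero] at this
    exact Ideal.mem_span_singleton'.2 ⟨k, this⟩
  · rw [Ideal.span_le, Set.singleton_subset_iff]
    exact hr0

theorem exists_retraction (hinj : Function.Injective (algebraMap A B)) :
    ∃ φ : B →ₗ[A] A, φ 1 = 1 := by
  obtain ⟨n, φ, x, hb⟩ := exists_dual_basis (A := A) (B := B)
  let J : Ideal A := LinearMap.range (LinearMap.applyₗ (1 : B) : (B →ₗ[A] A) →ₗ[A] A)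
  by_cases hJ : J = ⊤
  · obtain ⟨f, hf⟩ := (hJ.ge trivial : (1 : A) ∈ J)
    exact ⟨f, hf⟩
  · exfalso
    obtain ⟨m, hm, hJm⟩ := Ideal.exists_le_maximal J hJ
    have h1 : (1 : B) ∈ m • (⊤ : Submodule A B) := by
      rw [hb 1]
      exact Submodule.sum_mem _ fun i _ => Submodule.smul_mem_smul (hJm ⟨φ i, rfl⟩) trivial
    have hle : (⊤ : Submodule A B) ≤ m • ⊤ := fun b _ => by
      refine Submodule.smul_induction_on (p := fun y => b * y ∈ m • (⊤ : Submodule A B)) h1
        (fun a ha y _ => ?_) (fun y z hy hz => ?_) |> (mul_one b ▸ ·)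
      · rw [mul_smul_comm]
        exact Submodule.smul_mem_smul ha trivial
      · rw [mul_add]
        exact add_mem hy hz
    obtain ⟨r, hr1, hr⟩ := Submodule.exists_sub_one_mem_and_smul_eq_zero_of_fg_of_le_smul m ⊤
      Module.Finite.fg_top hle
    have hr0 : r = 0 := hinj (by rw [map_zero, Algebra.algebraMap_eq_smul_one, hr 1 trivial])
    rw [hr0, zero_sub] at hr1
    exact hm.ne_top (m.eq_top_iff_one.2 (neg_mem_iff.1 hr1))

end Ring

/-- The algebra map `R × R → A` attached to an idempotent. -/
def twistHom {R A : Type u} [CommRing R] [CommRing A] [Algebra R A] (e : A)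
    (he : IsIdempotentElem e) : (Bool → R) →ₐ[R] A :=
  AlgHom.ofLinearMap
    { toFun := fun c => algebraMap R A (c true) * e + algebraMap R A (c false) * (1 - e)
      map_add' := fun c d => by simp only [Pi.add_apply, map_add]; ring
      map_smul' := fun r c => by
        simp only [Pi.smul_apply, smul_eq_mul, map_mul, RingHom.id_apply, Algebra.smul_def]; ring }
    (by simp)
    (fun c d => by
      change algebraMap R A (c true * d true) * e + algebraMap R A (c false * d false) * (1 - e) =
        (algebraMap R A (c true) * e + algebraMap R A (c false) * (1 - e)) *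
        (algebraMap R A (d true) * e + algebraMap R A (d false) * (1 - e))
      rw [map_mul, map_mul]
      linear_combination (- (algebraMap R A (c true) * algebraMap R A (d true))
        + algebraMap R A (c true) * algebraMap R A (d false)
        + algebraMap R A (c false) * algebraMap R A (d true)
        - algebraMap R A (c false) * algebraMap R A (d false)) * he.eq)

theorem twistHom_apply {R A : Type u} [CommRing R] [CommRing A] [Algebra R A] (e : A)
    (he : IsIdempotentElem e) (c : Bool → R) :
    twistHom e he c = algebraMap R A (c true) * e + algebraMap R A (c false) * (1 - e) := rfl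

theorem etale_quotient_idem {R A : Type u} [CommRing R] [CommRing A] [Algebra R A]
    [Algebra.Etale R A] {r : A} (hr : IsIdempotentElem r) :
    Algebra.Etale R (A ⧸ Ideal.span {r}) := by
  haveI : IsLocalization.Away (1 - r) (A ⧸ Ideal.span {r}) := by
    have h := IsLocalization.Away.quotient_of_isIdempotentElem hr.one_sub
    rwa [sub_sub_cancel] at h
  haveI : Algebra.Etale A (A ⧸ Ideal.span {r}) :=
    Algebra.Etale.of_isLocalizationAway (1 - r)
  exact Algebra.Etale.comp R A _

variable {X : RSpace.{u}}

section Morphism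

variable {A B : FEt X} (f : A ⟶ B)

theorem finite_projective_app (p : X.pt) :
    letI := (f.hom.app p).toRingHom.toAlgebra
    Module.Finite (A.obj.carrier p) (B.obj.carrier p) ∧
      Module.Projective (A.obj.carrier p) (B.obj.carrier p) := by
  letI := (f.hom.app p).toRingHom.toAlgebra
  haveI : IsScalarTower (X.ring p) (A.obj.carrier p) (B.obj.carrier p) :=
    IsScalarTower.of_algebraMap_eq fun r => ((f.hom.app p).commutes r).symm
  haveI := (A.property.2 p).2
  haveI := (B.property.2 p).1
  haveI := (B.property.2 p).2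
  haveI : Algebra.Etale (A.obj.carrier p) (B.obj.carrier p) :=
    Algebra.Etale.of_restrictScalars (X.ring p) _ _
  haveI hfin : Module.Finite (A.obj.carrier p) (B.obj.carrier p) :=
    Module.Finite.of_restrictScalars_finite (X.ring p) _ _
  haveI : Module.FinitePresentation (A.obj.carrier p) (B.obj.carrier p) :=
    Module.FinitePresentation.of_finite_of_finitePresentation _ _
  exact ⟨hfin, Module.Flat.projective_of_finitePresentation⟩

theorem exists_idem_ker_app (p : X.pt) : ∃ r : A.obj.carrier p, IsIdempotentElem r ∧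
    RingHom.ker (f.hom.app p).toRingHom = Ideal.span {r} := by
  letI := (f.hom.app p).toRingHom.toAlgebra
  haveI := (finite_projective_app f p).1
  haveI := (finite_projective_app f p).2
  exact exists_idem_ker (A := A.obj.carrier p) (B := B.obj.carrier p)

/-- The idempotent generating the kernel of a morphism of étale covers. -/
noncomputable def kerIdem (p : X.pt) : A.obj.carrier p := (exists_idem_ker_app f p).choose

theorem kerIdem_isIdem (p : X.pt) : IsIdempotentElem (kerIdem f p) :=
  (exists_idem_ker_app f p).choose_spec.1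

theorem ker_eq (p : X.pt) :
    RingHom.ker (f.hom.app p).toRingHom = Ideal.span {kerIdem f p} :=
  (exists_idem_ker_app f p).choose_spec.2

theorem app_kerIdem (p : X.pt) : f.hom.app p (kerIdem f p) = 0 :=
  (ker_eq f p).ge (Ideal.mem_span_singleton_self _)

theorem eq_mul_kerIdem {p : X.pt} {a : A.obj.carrier p} (ha : f.hom.app p a = 0) :
    a * kerIdem f p = a := by
  obtain ⟨c, rfl⟩ := Ideal.mem_span_singleton'.1 ((ker_eq f p).le ha)
  rw [mul_assoc, kerIdem_isIdem f p]

end Morphism

theorem baseHom_injective (hX : X.IsFinSp) {A B : Alg X} (f : A ⟶ B) {p q : X.pt} (h : p ≤ q)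
    (hf : Function.Injective (f.app p)) :
    letI := (X.res h).toAlgebra
    Function.Injective (baseHom f h) := by
  letI := (X.res h).toAlgebra
  haveI : Module.Flat (X.ring p) (X.ring q) := hX.2 p q h
  have hh : ∀ t, baseHom f h t = LinearMap.lTensor (X.ring q) (f.app p).toLinearMap t := fun t => by
    induction t with
    | zero => simp
    | tmul s a => rfl
    | add a b ha hb => simp only [map_add, ha, hb]
  rw [funext hh]
  exact Module.Flat.lTensor_preserves_injective_linearMap _ hf

section Range

variable {A B : Alg X} (f : A ⟶ B)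

/-- The pointwise image of a morphism of algebras. -/
def rangeAlg : Alg X where
  carrier p := (f.app p).range
  res {p q} h := ((B.res h).comp (f.app p).range.val.toRingHom).codRestrict (f.app q).range
    (by rintro ⟨_, a, rfl⟩; exact ⟨A.res h a, (f.compat h a).symm⟩)
  res_algebraMap h a := Subtype.ext (B.res_algebraMap h a)
  res_self p b := Subtype.ext (B.res_self p b.1)
  res_comp h h' b := Subtype.ext (B.res_comp h h' b.1)

/-- The projection onto the image. -/
def toRange : A ⟶ rangeAlg f :=
  ⟨fun p => (f.app p).rangeRestrict, fun h a => Subtype.ext (f.compat h a)⟩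

/-- The inclusion of the image. -/
def ofRange : rangeAlg f ⟶ B :=
  ⟨fun p => (f.app p).range.val, fun _ _ => rfl⟩

theorem rangeAlg_isQcoh (hX : X.IsFinSp) (hA : A.IsQcoh) (hB : B.IsQcoh) :
    (rangeAlg f).IsQcoh := by
  rw [isQcoh_iff]
  intro p q h
  letI := (X.res h).toAlgebra
  refine ⟨fun t t' htt => ?_, fun b => ?_⟩
  · apply baseHom_injective hX (ofRange f) h Subtype.val_injective
    apply ((isQcoh_iff B).1 hB p q h).1
    rw [resAlg_naturality, resAlg_naturality, htt]
  · obtain ⟨a, ha⟩ := (f.app q).rangeRestrict_surjective b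
    obtain ⟨t, rfl⟩ := ((isQcoh_iff A).1 hA p q h).2 a
    exact ⟨baseHom (toRange f) h t, (resAlg_naturality (toRange f) h t).trans ha⟩

end Range

section RangeFEt

variable {A B : FEt X} (f : A ⟶ B)

theorem rangeAlg_isEtCover (hX : X.IsFinSp) : (rangeAlg f.hom).IsEtCover := by
  refine ⟨rangeAlg_isQcoh f.hom hX A.property.1 B.property.1, fun p => ?_⟩
  haveI := (A.property.2 p).1
  haveI := (A.property.2 p).2
  haveI : Algebra.Etale (X.ring p) (A.obj.carrier p ⧸ Ideal.span {kerIdem f p}) :=
    etale_quotient_idem (kerIdem_isIdem f p)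
  let e₀ : (A.obj.carrier p ⧸ Ideal.span {kerIdem f p}) ≃ₐ[X.ring p]
      (A.obj.carrier p ⧸ RingHom.ker (f.hom.app p).rangeRestrict) :=
    Ideal.quotientEquivAlgOfEq (X.ring p) (by
      rw [← ker_eq f p]
      exact Ideal.ext fun a => ⟨fun h => Subtype.ext h, fun h => congrArg Subtype.val h⟩)
  let e := e₀.trans
    (Ideal.quotientKerAlgEquivOfSurjective (f.hom.app p).rangeRestrict_surjective)
  exact ⟨Module.Finite.equiv e.toLinearEquiv, Algebra.Etale.of_equiv e⟩

theorem exists_factor (hX : X.IsFinSp) :
    ∃ (Q : FEt X) (g : A ⟶ Q) (h : Q ⟶ B), g ≫ h = f ∧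
      (∀ p : X.pt, Function.Surjective (g.hom.app p)) ∧
      ∀ p : X.pt, Function.Injective (h.hom.app p) :=
  ⟨⟨rangeAlg f.hom, rangeAlg_isEtCover f hX⟩, ObjectProperty.homMk (toRange f.hom),
    ObjectProperty.homMk (ofRange f.hom), fet_hom_ext _ _ fun _ _ => rfl,
    fun p => (f.hom.app p).rangeRestrict_surjective, fun _ => Subtype.val_injective⟩

theorem eq_mul_of_baseHom_zero (hX : X.IsFinSp) {p q : X.pt} (h : p ≤ q) :
    letI := (X.res h).toAlgebra
    ∀ t, baseHom f.hom h t = 0 → t * ((1 : X.ring q) ⊗ₜ[X.ring p] kerIdem f p) = t := by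
  intro t ht
  letI := (X.res h).toAlgebra
  have h0 : baseHom (toRange f.hom) h t = 0 := by
    apply baseHom_injective hX (ofRange f.hom) h Subtype.val_injective
    rw [map_zero, ← ht]
    clear ht
    induction t with
    | zero => simp
    | tmul s a => rfl
    | add a b ha hb => simp only [map_add, ha, hb]
  have hk : t ∈ RingHom.ker (Algebra.TensorProduct.map (AlgHom.id (X.ring p) (X.ring q))
      (f.hom.app p).rangeRestrict) := h0
  rw [Algebra.TensorProduct.lTensor_ker _ (f.hom.app p).rangeRestrict_surjective,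
    show RingHom.ker (f.hom.app p).rangeRestrict = Ideal.span {kerIdem f p} from
      (Ideal.ext fun a => Subtype.ext_iff).trans (ker_eq f p), Ideal.map_span, Set.image_singleton]
    at hk
  obtain ⟨c, rfl⟩ := Ideal.mem_span_singleton'.1 hk
  rw [mul_assoc, show Algebra.TensorProduct.includeRight (R := X.ring p) (A := X.ring q)
    (kerIdem f p) = (1 : X.ring q) ⊗ₜ[X.ring p] kerIdem f p from rfl,
    Algebra.TensorProduct.tmul_mul_tmul, one_mul, kerIdem_isIdem f p]

theorem res_kerIdem (hX : X.IsFinSp) {p q : X.pt} (h : p ≤ q) :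
    A.obj.res h (kerIdem f p) = kerIdem f q := by
  letI := (X.res h).toAlgebra
  have h1 : A.obj.res h (kerIdem f p) * kerIdem f q = A.obj.res h (kerIdem f p) :=
    eq_mul_kerIdem f (by rw [← f.hom.compat, app_kerIdem, map_zero])
  obtain ⟨t, ht⟩ := ((isQcoh_iff A.obj).1 A.property.1 p q h).2 (kerIdem f q)
  have h2 : baseHom f.hom h t = 0 := by
    apply ((isQcoh_iff B.obj).1 B.property.1 p q h).1
    rw [resAlg_naturality, ht, app_kerIdem, map_zero]
  have h3 := congrArg (resAlg A.obj h) (eq_mul_of_baseHom_zero f hX h t h2)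
  rw [map_mul, resAlg_one_tmul, ht] at h3
  rw [← h1, mul_comm, h3]

/-- The unit-twisting pair of morphisms used for monomorphisms. -/
noncomputable def swapHom (hX : X.IsFinSp) : piFEt (fun _ : Bool => strFEt X) ⟶ A :=
  ObjectProperty.homMk
    ⟨fun p => twistHom (R := X.ring p) (kerIdem f p) (kerIdem_isIdem f p),
    fun {p q} h c => by
      change A.obj.res h (twistHom (R := X.ring p) (kerIdem f p) (kerIdem_isIdem f p) c) =
        twistHom (R := X.ring q) (kerIdem f q) (kerIdem_isIdem f q) fun b => X.res h (c b)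
      simp only [twistHom_apply, map_add, map_mul, map_sub, map_one, A.obj.res_algebraMap,
        res_kerIdem f hX h]⟩

theorem kerIdem_eq_zero_of_mono (hX : X.IsFinSp) [Mono f] (p : X.pt) : kerIdem f p = 0 := by
  let v : piFEt (fun _ : Bool => strFEt X) ⟶ A :=
    (piFan (fun _ : Bool => strFEt X)).proj false ≫ strHom A
  have h : swapHom f hX ≫ f = v ≫ f := fet_hom_ext _ _ fun q c => by
    change f.hom.app q (algebraMap (X.ring q) _ (c true) * kerIdem f q +
      algebraMap (X.ring q) _ (c false) * (1 - kerIdem f q)) =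
      f.hom.app q (algebraMap (X.ring q) _ (c false))
    simp only [map_add, map_mul, map_sub, map_one, app_kerIdem, mul_zero, sub_zero, mul_one,
      zero_add]
  have := congrArg (fun φ => φ.hom.app p (fun b : Bool => bif b then (1 : X.ring p) else 0))
    ((cancel_mono f).1 h)
  change algebraMap (X.ring p) _ (1 : X.ring p) * kerIdem f p +
    algebraMap (X.ring p) _ (0 : X.ring p) * (1 - kerIdem f p) =
    algebraMap (X.ring p) _ (0 : X.ring p) at this
  simpa using this

theorem injective_of_mono (hX : X.IsFinSp) [Mono f] (p : X.pt) :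
    Function.Injective (f.hom.app p) := by
  rw [injective_iff_map_eq_zero]
  intro a ha
  rw [← eq_mul_kerIdem f ha, kerIdem_eq_zero_of_mono f hX p, mul_zero]

end RangeFEt

section Complement

variable {A B : FEt X} (f : A ⟶ B)

/-- The complementary factor of the image of a morphism. -/
noncomputable def complAlg (hX : X.IsFinSp) : Alg X where
  carrier p := A.obj.carrier p ⧸ Ideal.span {1 - kerIdem f p}
  res {p q} h := Ideal.quotientMap _ (A.obj.res h) (by
    rw [Ideal.span_le, Set.singleton_subset_iff]
    change A.obj.res h (1 - kerIdem f p) ∈ Ideal.span {1 - kerIdem f q}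
    rw [map_sub, map_one, res_kerIdem f hX h]
    exact Ideal.mem_span_singleton_self _)
  res_algebraMap h a := congrArg (Ideal.Quotient.mk _) (A.obj.res_algebraMap h a)
  res_self p b := by
    obtain ⟨a, rfl⟩ := Ideal.Quotient.mk_surjective b
    exact congrArg (Ideal.Quotient.mk _) (A.obj.res_self p a)
  res_comp h h' b := by
    obtain ⟨a, rfl⟩ := Ideal.Quotient.mk_surjective b
    exact congrArg (Ideal.Quotient.mk _) (A.obj.res_comp h h' a)

/-- The projection to the complementary factor. -/
noncomputable def toCompl (hX : X.IsFinSp) : A.obj ⟶ complAlg f hX :=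
  ⟨fun p => Ideal.Quotient.mkₐ (X.ring p) _, fun _ _ => rfl⟩

theorem complAlg_isEtCover (hX : X.IsFinSp) : (complAlg f hX).IsEtCover := by
  refine ⟨(isQcoh_iff _).2 fun p q h => ?_, fun p => ?_⟩
  · letI := (X.res h).toAlgebra
    haveI : Module.Flat (X.ring p) (X.ring q) := hX.2 p q h
    have hA := (isQcoh_iff A.obj).1 A.property.1 p q h
    have hsurj : Function.Surjective (baseHom (toCompl f hX) h) :=
      fun t => by
        induction t with
        | zero => exact ⟨0, map_zero _⟩
        | tmul s d =>
          obtain ⟨a, rfl⟩ := Ideal.Quotient.mk_surjective d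
          exact ⟨s ⊗ₜ a, rfl⟩
        | add a b ha hb =>
          obtain ⟨a', rfl⟩ := ha; obtain ⟨b', rfl⟩ := hb
          exact ⟨a' + b', map_add _ _ _⟩
    refine ⟨?_, fun d => ?_⟩
    · rw [injective_iff_map_eq_zero]
      intro t ht
      obtain ⟨t', rfl⟩ := hsurj t
      rw [resAlg_naturality] at ht
      have h1 : resAlg A.obj h t' * kerIdem f q = 0 := by
        obtain ⟨c, hc⟩ := Ideal.mem_span_singleton'.1 (Ideal.Quotient.eq_zero_iff_mem.1 ht)
        rw [← hc, mul_assoc, sub_mul, one_mul, kerIdem_isIdem f q, sub_self, mul_zero]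
      have h2 : t' * ((1 : X.ring q) ⊗ₜ[X.ring p] kerIdem f p) = 0 := hA.1 (by
        rw [map_mul, resAlg_one_tmul, res_kerIdem f hX h, h1, map_zero])
      have h3 := congrArg (baseHom (toCompl f hX) h) h2
      rw [map_mul, baseHom_tmul, map_zero,
        show (toCompl f hX).app p (kerIdem f p) = 1 from
          (Ideal.Quotient.eq.2 (Ideal.mem_span_singleton_self _)).symm.trans (map_one _)] at h3
      rw [← Algebra.TensorProduct.one_def, mul_one] at h3
      exact h3
    · obtain ⟨a, rfl⟩ := Ideal.Quotient.mk_surjective d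
      obtain ⟨t, rfl⟩ := hA.2 a
      exact ⟨baseHom (toCompl f hX) h t, resAlg_naturality (toCompl f hX) h t⟩
  · haveI := (A.property.2 p).1
    haveI := (A.property.2 p).2
    exact ⟨inferInstanceAs (Module.Finite (X.ring p) (A.obj.carrier p ⧸ Ideal.span {1 - kerIdem f p})),
      etale_quotient_idem (kerIdem_isIdem f p).one_sub⟩

theorem bijective_prod (hX : X.IsFinSp) (hf : ∀ p, Function.Surjective (f.hom.app p)) (p : X.pt) :
    Function.Bijective ((f.hom.app p).prod ((toCompl f hX).app p)) := by
  refine ⟨?_, fun ⟨b, d⟩ => ?_⟩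
  · rw [injective_iff_map_eq_zero]
    intro a ha
    have h1 := eq_mul_kerIdem f (congrArg Prod.fst ha)
    obtain ⟨c, hc⟩ := Ideal.mem_span_singleton'.1
      (Ideal.Quotient.eq_zero_iff_mem.1 (congrArg Prod.snd ha))
    rw [← h1, ← hc, mul_assoc, sub_mul, one_mul, kerIdem_isIdem f p, sub_self, mul_zero]
  · obtain ⟨a, rfl⟩ := hf p b
    obtain ⟨a', rfl⟩ := Ideal.Quotient.mk_surjective d
    refine ⟨a * (1 - kerIdem f p) + a' * kerIdem f p, Prod.ext ?_ ?_⟩
    · change f.hom.app p _ = f.hom.app p a
      simp [app_kerIdem]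
    · refine Ideal.Quotient.eq.2 (Ideal.mem_span_singleton'.2 ⟨a - a', ?_⟩)
      ring

theorem exists_prod (hX : X.IsFinSp) (hf : ∀ p, Function.Surjective (f.hom.app p)) :
    ∃ (D : FEt X) (π : A ⟶ D), Nonempty (IsLimit (BinaryFan.mk f π)) := by
  refine ⟨⟨complAlg f hX, complAlg_isEtCover f hX⟩, ObjectProperty.homMk (toCompl f hX), ⟨?_⟩⟩
  let e := fun p => AlgEquiv.ofBijective _ (bijective_prod f hX hf p)
  refine BinaryFan.IsLimit.mk _
    (fun {T} u v => ObjectProperty.homMk
      ⟨fun p => (e p).symm.toAlgHom.comp ((u.hom.app p).prod (v.hom.app p)), fun {p q} h t => ?_⟩)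
    (fun u v => fet_hom_ext _ _ fun p t =>
      congrArg Prod.fst ((e p).apply_symm_apply (u.hom.app p t, v.hom.app p t)))
    (fun u v => fet_hom_ext _ _ fun p t =>
      congrArg Prod.snd ((e p).apply_symm_apply (u.hom.app p t, v.hom.app p t)))
    (fun u v m h1 h2 => fet_hom_ext _ _ fun p t => ?_)
  · apply (e q).injective
    obtain ⟨a, ha⟩ := (e p).surjective (u.hom.app p t, v.hom.app p t)
    change e q (A.obj.res h ((e p).symm (u.hom.app p t, v.hom.app p t))) =
      e q ((e q).symm (u.hom.app q (T.obj.res h t), v.hom.app q (T.obj.res h t)))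
    rw [AlgEquiv.apply_symm_apply, ← ha, AlgEquiv.symm_apply_apply]
    refine Prod.ext ?_ ?_
    · change f.hom.app q (A.obj.res h a) = u.hom.app q (T.obj.res h t)
      rw [← f.hom.compat, ← u.hom.compat]
      exact congrArg (B.obj.res h) (congrArg Prod.fst ha)
    · change (toCompl f hX).app q (A.obj.res h a) = v.hom.app q (T.obj.res h t)
      rw [← (toCompl f hX).compat, ← v.hom.compat]
      exact congrArg ((complAlg f hX).res h) (congrArg Prod.snd ha)
  · apply (e p).injective
    refine Eq.trans ?_ ((e p).apply_symm_apply (u.hom.app p t, v.hom.app p t)).symm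
    exact Prod.ext (congrArg (fun φ => φ.hom.app p t) h1) (congrArg (fun φ => φ.hom.app p t) h2)

end Complement

section Rank

theorem bijective_of_rank_eq {A B : FEt X} (f : A ⟶ B) (p : X.pt)
    (hf : Function.Injective (f.hom.app p))
    (hdeg : ∀ P : PrimeSpectrum (X.ring p),
      Module.rankAtStalk (A.obj.carrier p) P = Module.rankAtStalk (B.obj.carrier p) P) :
    Function.Bijective (f.hom.app p) := by
  letI := (f.hom.app p).toRingHom.toAlgebra
  haveI := (finite_projective_app f p).1
  haveI := (finite_projective_app f p).2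
  haveI : IsScalarTower (X.ring p) (A.obj.carrier p) (B.obj.carrier p) :=
    IsScalarTower.of_algebraMap_eq fun r => ((f.hom.app p).commutes r).symm
  haveI := (A.property.2 p).1
  haveI := (A.property.2 p).2
  haveI := (B.property.2 p).1
  haveI := (B.property.2 p).2
  obtain ⟨φ, hφ⟩ := exists_retraction (A := A.obj.carrier p) (B := B.obj.carrier p) hf
  let φR : B.obj.carrier p →ₗ[X.ring p] A.obj.carrier p := φ.restrictScalars (X.ring p)
  have hφa : ∀ a, φR (f.hom.app p a) = a := fun a => by
    change φ (algebraMap (A.obj.carrier p) (B.obj.carrier p) a) = a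
    rw [Algebra.algebraMap_eq_smul_one, map_smul, hφ, smul_eq_mul, mul_one]
  let K := LinearMap.ker φR
  let e : B.obj.carrier p ≃ₗ[X.ring p] A.obj.carrier p × K :=
    { toFun := fun b => (φR b, ⟨b - f.hom.app p (φR b), by
        change φR _ = 0
        rw [map_sub, hφa, sub_self]⟩)
      map_add' := fun b c => Prod.ext (map_add _ _ _) (Subtype.ext (by simp; abel))
      map_smul' := fun r b => Prod.ext (map_smul _ _ _) (Subtype.ext (by simp [smul_sub]))
      invFun := fun x => f.hom.app p x.1 + x.2.1
      left_inv := fun b => by simp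
      right_inv := fun ⟨a, k⟩ => by
        have hk : φR k.1 = 0 := k.2
        exact Prod.ext (by simp [hφa, hk]) (Subtype.ext (by simp [hφa, hk])) }
  haveI : Module.Finite (X.ring p) K :=
    Module.Finite.of_surjective ((LinearMap.snd _ _ _).comp e.toLinearMap)
      (Prod.snd_surjective.comp e.surjective)
  haveI : Module.Flat (X.ring p) K :=
    Module.Flat.of_retract (e.symm.toLinearMap.comp (LinearMap.inr _ _ _))
      ((LinearMap.snd _ _ _).comp e.toLinearMap) (LinearMap.ext fun k => by
        change (e (e.symm (0, k))).2 = k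
        rw [e.apply_symm_apply])
  haveI : Module.FinitePresentation (X.ring p) (A.obj.carrier p) :=
    Module.FinitePresentation.of_finite_of_finitePresentation _ _
  have hK : Module.rankAtStalk (R := X.ring p) K = 0 := funext fun P => by
    have h := congrFun (Module.rankAtStalk_eq_of_equiv e) P
    rw [Module.rankAtStalk_prod, Pi.add_apply, ← hdeg P] at h
    exact Nat.add_left_cancel (h.symm.trans (Nat.add_zero _).symm)
  haveI : Module.FinitePresentation (X.ring p) (B.obj.carrier p) :=
    Module.FinitePresentation.of_finite_of_finitePresentation _ _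
  have hsub : Subsingleton K :=
    (Module.rankAtStalk_eq_zero_iff_subsingleton (R := X.ring p) (M := K)).1 hK
  refine ⟨hf, fun b => ⟨φR b, ?_⟩⟩
  have := congrArg Subtype.val (Subsingleton.elim (e b).2 0)
  exact (sub_eq_zero.1 this).symm

end Rank

end Groth.Agent.SchFinLib
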