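import Groth.Agent.SchFinLib.Fiber
import Mathlib.RingTheory.Etale.Descent
import Mathlib.CategoryTheory.SingleObj
import Mathlib.CategoryTheory.Galois.Basic
import Mathlib.RingTheory.TensorProduct.Pi
import Mathlib.Algebra.Polynomial.AlgebraMap

/-! Invariants of finite groups acting on étale covers; the Galois category structure. -/

set_option autoImplicit false

open TensorProduct CategoryTheory Limits Opposite

namespace Groth.Agent.SchFinLib

open SchFin

universe u

section Fixed

variable {B G : Type u} [CommRing B] [Finite G] [Group G] {n : ℕ}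
  (α : G → (Fin n → B) →ₐ[B] (Fin n → B))

/-- The fixed subalgebra of a family of endomorphisms. -/
def fixedAlg : Subalgebra B (Fin n → B) where
  carrier := {c | ∀ g, α g c = c}
  mul_mem' ha hb g := by rw [map_mul, ha g, hb g]
  add_mem' ha hb g := by rw [map_add, ha g, hb g]
  one_mem' g := map_one _
  zero_mem' g := map_zero _
  algebraMap_mem' b g := (α g).commutes b

theorem etale_fixedAlg (h1 : α 1 = AlgHom.id B _)
    (hmul : ∀ g h c, α (g * h) c = α g (α h c)) : Algebra.Etale B (fixedAlg α) := by
  classical
  haveI := Fintype.ofFinite G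
  let δ : Fin n → Fin n → B := fun i => Pi.single i 1
  have hδ : ∀ i, IsIdempotentElem (δ i) := fun i => funext fun j => by
    rcases eq_or_ne j i with rfl | hne <;> simp [δ, *]
  let u : Fin n → Fin n → B := fun i => 1 - ∏ g, (1 - α g (δ i))
  have hu : ∀ i, IsIdempotentElem (u i) := fun i =>
    (Finset.prod_induction (fun g => 1 - α g (δ i)) IsIdempotentElem
      (fun a b ha hb => ha.mul hb) IsIdempotentElem.one
      (fun g _ => ((hδ i).map (α g)).one_sub)).one_sub
  have hfix : ∀ i h, α h (u i) = u i := fun i h => by
    change α h (1 - ∏ g, (1 - α g (δ i))) = _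
    rw [map_sub, map_one, map_prod]
    simp only [map_sub, map_one, ← hmul]
    exact congrArg (1 - ·) (Equiv.prod_comp (Equiv.mulLeft h) fun g => 1 - α g (δ i))
  let v : Fin n → Fin n → B := fun i => u i * ∏ k ∈ Finset.univ with k < i, (1 - u k)
  have hv : ∀ i, IsIdempotentElem (v i) := fun i => (hu i).mul
    (Finset.prod_induction (fun k => 1 - u k) IsIdempotentElem
      (fun a b ha hb => ha.mul hb) IsIdempotentElem.one (fun k _ => (hu k).one_sub))
  have hvfix : ∀ i h, α h (v i) = v i := fun i h => by
    change α h (u i * _) = _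
    simp only [map_mul, map_prod, map_sub, map_one, hfix]
    rfl
  have hprod : ∏ i, (1 - u i) = 0 := funext fun j => by
    rw [Finset.prod_apply]
    refine Finset.prod_eq_zero (Finset.mem_univ j) ?_
    change (1 - (1 - ∏ g, (1 - α g (δ j)))) j = 0
    rw [sub_sub_cancel, Finset.prod_apply]
    refine Finset.prod_eq_zero (Finset.mem_univ 1) ?_
    simp [h1, δ]
  have hsum : ∑ i, v i = 1 :=
    (sub_eq_zero.1 ((Finset.prod_one_sub_ordered Finset.univ u).symm.trans hprod)).symm
  have horth : ∀ i j, i ≠ j → v i * v j = 0 := by
    have aux : ∀ i j, i < j → v i * v j = 0 := fun i j hij => by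
      change u i * _ * (u j * _) = 0
      rw [← Finset.mul_prod_erase (Finset.univ.filter (· < j)) (fun k => 1 - u k)
        (Finset.mem_filter.2 ⟨Finset.mem_univ i, hij⟩)]
      have h0 : u i * (1 - u i) = 0 := by rw [mul_sub, mul_one, (hu i).eq, sub_self]
      linear_combination (∏ k ∈ Finset.univ with k < i, (1 - u k)) * u j *
        (∏ k ∈ (Finset.univ.filter (· < j)).erase i, (1 - u k)) * h0
    intro i j hne
    rcases lt_or_gt_of_ne hne with h | h
    · exact aux i j h
    · rw [mul_comm]; exact aux j i h
  have hcoord : ∀ (c : Fin n → B) i, c * δ i = algebraMap B (Fin n → B) (c i) * δ i :=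
    fun c i => funext fun j => by rcases eq_or_ne j i with rfl | hne <;> simp [δ, *]
  have hkill : ∀ (a : Fin n → B) i, (∀ g, a * α g (δ i) = 0) → a * u i = 0 := fun a i h => by
    have : ∀ s : Finset G, a * ∏ g ∈ s, (1 - α g (δ i)) = a := fun s => by
      induction s using Finset.induction with
      | empty => simp
      | insert g s hg ih =>
        rw [Finset.prod_insert hg, ← mul_assoc, mul_sub, mul_one, h g, sub_zero, ih]
    change a * (1 - _) = 0
    rw [mul_sub, mul_one, this, sub_self]
  -- the map onto the invariants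
  let Ψ : (Fin n → B) →ₐ[B] fixedAlg α :=
    AlgHom.ofLinearMap
      { toFun := fun b => ⟨∑ i, algebraMap B (Fin n → B) (b i) * v i, fun g => by
          simp only [map_sum, map_mul, AlgHom.commutes, hvfix]⟩
        map_add' := fun b c => Subtype.ext (by
          change _ = _ + _
          simp only [Pi.add_apply, map_add, add_mul, Finset.sum_add_distrib])
        map_smul' := fun r b => Subtype.ext (by
          change _ = r • _
          simp only [Pi.smul_apply, smul_eq_mul, map_mul, Algebra.smul_def, Finset.mul_sum,
            mul_assoc]) }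
      (Subtype.ext (by
        change ∑ i, algebraMap B (Fin n → B) ((1 : Fin n → B) i) * v i = 1
        simp only [Pi.one_apply, map_one, one_mul, hsum]))
      (fun b c => Subtype.ext (by
        change ∑ i, algebraMap B (Fin n → B) ((b * c) i) * v i =
          (∑ i, algebraMap B (Fin n → B) (b i) * v i) * (∑ i, algebraMap B (Fin n → B) (c i) * v i)
        rw [Finset.sum_mul_sum]
        refine Finset.sum_congr rfl fun i _ => ?_
        rw [Finset.sum_eq_single i (fun j _ hj => by
          rw [mul_mul_mul_comm, horth i j (Ne.symm hj), mul_zero])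
          (fun h => absurd (Finset.mem_univ i) h)]
        rw [Pi.mul_apply, map_mul]
        linear_combination - algebraMap B (Fin n → B) (b i) * algebraMap B (Fin n → B) (c i) * (hv i).eq))
  have hsurj : Function.Surjective Ψ := fun c => ⟨c.1, Subtype.ext (by
    change ∑ i, algebraMap B (Fin n → B) (c.1 i) * v i = c.1
    conv_rhs => rw [← mul_one c.1, ← hsum, Finset.mul_sum]
    refine Finset.sum_congr rfl fun i _ => ?_
    have h0 := hkill (c.1 - algebraMap B (Fin n → B) (c.1 i)) i fun g => by
      have := congrArg (α g) (hcoord c.1 i)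
      rw [map_mul, map_mul, c.2 g, AlgHom.commutes] at this
      rw [sub_mul, this, sub_self]
    rw [sub_mul, sub_eq_zero] at h0
    change _ * (u i * _) = _ * (u i * _)
    rw [← mul_assoc, ← mul_assoc, h0])⟩
  let e : Fin n → B := fun i => v i i
  have he : IsIdempotentElem e := funext fun i => congrFun (hv i) i
  have hker : RingHom.ker Ψ = Ideal.span {1 - e} := by
    apply le_antisymm
    · intro b hb
      have hb' : ∑ i, algebraMap B (Fin n → B) (b i) * v i = 0 := congrArg Subtype.val hb
      have h0 : b * e = 0 := funext fun i => by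
        have h2 := congrArg (· * v i) hb'
        simp only [Finset.sum_mul, zero_mul] at h2
        rw [Finset.sum_eq_single i (fun j _ hj => by rw [mul_assoc, horth j i hj, mul_zero])
          (fun h => absurd (Finset.mem_univ i) h), mul_assoc, (hv i).eq] at h2
        exact congrFun h2 i
      exact Ideal.mem_span_singleton'.2 ⟨b, by rw [mul_sub, mul_one, h0, sub_zero]⟩
    · rw [Ideal.span_le, Set.singleton_subset_iff]
      refine Subtype.ext ?_
      change ∑ i, algebraMap B (Fin n → B) ((1 - e) i) * v i = 0
      refine Finset.sum_eq_zero fun i _ => ?_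
      let a : Fin n → B := algebraMap B (Fin n → B) ((1 - e) i) * v i
      have h3 : a * δ i = 0 := funext fun j => by
        rcases eq_or_ne j i with rfl | hne
        · have := congrFun (hv j) j
          simp only [Pi.mul_apply] at this
          simp [a, δ, e, sub_mul, this]
        · simp [a, δ, hne]
      have h4 : a * u i = 0 := hkill a i fun g => by
        have := congrArg (α g) h3
        rwa [map_mul, map_zero, map_mul, AlgHom.commutes, hvfix] at this
      rw [show algebraMap B (Fin n → B) ((1 - e) i) * v i = a * u i from ?_, h4]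
      change _ * (u i * _) = _ * (u i * _) * u i
      linear_combination - algebraMap B (Fin n → B) ((1 - e) i) *
        (∏ k ∈ Finset.univ with k < i, (1 - u k)) * (hu i).eq
  haveI : Algebra.Etale B ((Fin n → B) ⧸ Ideal.span {1 - e}) := etale_quotient_idem he.one_sub
  exact Algebra.Etale.of_equiv
    ((Ideal.quotientEquivAlgOfEq B hker.symm).trans (Ideal.quotientKerAlgEquivOfSurjective hsurj))

end Fixed

variable {X : RSpace.{u}}

section Invariants

variable {G : Type u} [Group G] [Finite G] {A : FEt X} (σ : G → (A ⟶ A))

/-- The pointwise invariants. -/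
def invSub (p : X.pt) : Subalgebra (X.ring p) (A.obj.carrier p) where
  carrier := {a | ∀ g, (σ g).hom.app p a = a}
  mul_mem' ha hb g := by rw [map_mul, ha g, hb g]
  add_mem' ha hb g := by rw [map_add, ha g, hb g]
  one_mem' g := map_one _
  zero_mem' g := map_zero _
  algebraMap_mem' r g := ((σ g).hom.app p).commutes r

/-- The algebra of invariants. -/
def invAlg : Alg X where
  carrier p := invSub σ p
  res {p q} h := ((A.obj.res h).comp (invSub σ p).val.toRingHom).codRestrict (invSub σ q)
    (fun a g => ((σ g).hom.compat h a.1).symm.trans (congrArg (A.obj.res h) (a.2 g)))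
  res_algebraMap h a := Subtype.ext (A.obj.res_algebraMap h a)
  res_self p b := Subtype.ext (A.obj.res_self p b.1)
  res_comp h h' b := Subtype.ext (A.obj.res_comp h h' b.1)

/-- The inclusion of the invariants. -/
def invIncl : invAlg σ ⟶ A.obj :=
  ⟨fun p => (invSub σ p).val, fun _ _ => rfl⟩

/-- The linear map whose kernel is the invariants. -/
def invDiff (p : X.pt) : A.obj.carrier p →ₗ[X.ring p] (G → A.obj.carrier p) :=
  LinearMap.pi fun g => ((σ g).hom.app p).toLinearMap - LinearMap.id

theorem invDiff_eq_zero {p : X.pt} {a : A.obj.carrier p} :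
    invDiff σ p a = 0 ↔ a ∈ invSub σ p :=
  ⟨fun h g => sub_eq_zero.1 (congrFun h g), fun h => funext fun g => sub_eq_zero.2 (h g)⟩

theorem invAlg_isQcoh (hX : X.IsFinSp) : (invAlg σ).IsQcoh := by
  classical
  haveI := Fintype.ofFinite G
  rw [isQcoh_iff]
  intro p q h
  letI := (X.res h).toAlgebra
  haveI : Module.Flat (X.ring p) (X.ring q) := hX.2 p q h
  have hA := (isQcoh_iff A.obj).1 A.property.1 p q h
  have hinj : Function.Injective (baseHom (invIncl σ) h) :=
    baseHom_injective hX (invIncl σ) h Subtype.val_injective
  refine ⟨fun t t' htt => hinj (hA.1 ?_), fun b => ?_⟩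
  · rw [resAlg_naturality, resAlg_naturality, htt]
  · obtain ⟨t, ht⟩ := hA.2 b.1
    have hex : Function.Exact (invSub σ p).val.toLinearMap (invDiff σ p) := fun a =>
      (invDiff_eq_zero σ).trans ⟨fun ha => ⟨⟨a, ha⟩, rfl⟩, fun ⟨y, hy⟩ => hy ▸ y.2⟩
    have h0 : LinearMap.lTensor (X.ring q) (invDiff σ p) t = 0 := by
      let P := TensorProduct.piRight (X.ring p) (X.ring q) (X.ring q)
        (fun _ : G => A.obj.carrier p)
      apply P.injective
      rw [map_zero]
      funext g
      have hg : ∀ s, P (LinearMap.lTensor (X.ring q) (invDiff σ p) s) g =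
          baseHom (σ g).hom h s - s := fun s => by
        induction s with
        | zero => simp
        | tmul c a =>
          rw [LinearMap.lTensor_tmul, TensorProduct.piRight_apply,
            TensorProduct.piRightHom_tmul, baseHom_tmul, ← TensorProduct.tmul_sub]
          rfl
        | add a b ha hb =>
          rw [map_add, map_add, Pi.add_apply, ha, hb, map_add, add_sub_add_comm]
      rw [hg]
      refine sub_eq_zero.2 (hA.1 ?_)
      rw [resAlg_naturality, ht]
      exact b.2 g
    obtain ⟨t', rfl⟩ := (Module.Flat.lTensor_exact (X.ring q) hex t).1 h0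
    refine ⟨t', Subtype.ext ?_⟩
    rw [← ht]
    refine (resAlg_naturality (invIncl σ) h t').symm.trans (congrArg (resAlg A.obj h) ?_)
    clear h0 ht
    induction t' with
    | zero => exact (map_zero _).trans (map_zero _).symm
    | tmul c a => rfl
    | add x y hx hy =>
      exact (map_add _ _ _).trans ((congrArg₂ (· + ·) hx hy).trans (map_add _ _ _).symm)

theorem invAlg_isEtCover (hX : X.IsFinSp)
    (hlt : ∃ (B : Alg X) (n : ℕ), B.IsCovering ∧ ∀ p : X.pt,
      Nonempty (TensorProduct (X.ring p) (B.carrier p) (A.obj.carrier p) ≃ₐ[B.carrier p]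
        (Fin n → B.carrier p)))
    (h1 : σ 1 = 𝟙 A) (hmul : ∀ g h, σ (g * h) = σ h ≫ σ g) :
    (invAlg σ).IsEtCover := by
  classical
  haveI := Fintype.ofFinite G
  refine ⟨invAlg_isQcoh σ hX, fun p => ⟨?_, ?_⟩⟩
  · haveI := (A.property.2 p).1
    haveI := hX.1 p
    haveI : IsNoetherian (X.ring p) (A.obj.carrier p) := isNoetherian_of_isNoetherianRing_of_finite _ _
    exact Module.Finite.of_injective (invSub σ p).val.toLinearMap Subtype.val_injective
  · obtain ⟨B, n, hB, he⟩ := hlt
    obtain ⟨e⟩ := he p
    haveI := (hB.2 p).2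
    let τ : G → (B.carrier p ⊗[X.ring p] A.obj.carrier p →ₐ[B.carrier p]
        B.carrier p ⊗[X.ring p] A.obj.carrier p) := fun g =>
      Algebra.TensorProduct.map (AlgHom.id _ _) ((σ g).hom.app p)
    let α : G → (Fin n → B.carrier p) →ₐ[B.carrier p] (Fin n → B.carrier p) := fun g =>
      e.toAlgHom.comp ((τ g).comp e.symm.toAlgHom)
    have hα : ∀ g x, α g (e x) = e (τ g x) := fun g x =>
      congrArg (fun y => e (τ g y)) (e.symm_apply_apply x)
    have hτ1 : ∀ x, τ 1 x = x := fun x => by
      induction x with
      | zero => simp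
      | tmul c a =>
        change c ⊗ₜ[X.ring p] (σ 1).hom.app p a = c ⊗ₜ[X.ring p] a
        rw [h1]
        rfl
      | add a b ha hb => rw [map_add, ha, hb]
    have hτm : ∀ g h x, τ (g * h) x = τ g (τ h x) := fun g h x => by
      induction x with
      | zero => simp
      | tmul c a =>
        change c ⊗ₜ[X.ring p] (σ (g * h)).hom.app p a = c ⊗ₜ[X.ring p] _
        rw [hmul]
        rfl
      | add a b ha hb => simp only [map_add, ha, hb]
    haveI := etale_fixedAlg α
      (AlgHom.ext fun c => by
        obtain ⟨x, rfl⟩ := e.surjective c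
        rw [hα, hτ1]; rfl)
      (fun g h c => by
        obtain ⟨x, rfl⟩ := e.surjective c
        rw [hα, hα, hα, hτm])
    let j : B.carrier p ⊗[X.ring p] invSub σ p →ₐ[B.carrier p] (Fin n → B.carrier p) :=
      e.toAlgHom.comp (Algebra.TensorProduct.map (AlgHom.id _ _) (invSub σ p).val)
    have hι : ∀ s, Algebra.TensorProduct.map (AlgHom.id (B.carrier p) (B.carrier p))
        (invSub σ p).val s =
        LinearMap.lTensor (B.carrier p) (invSub σ p).val.toLinearMap s := fun s => by
      induction s with
      | zero => exact (map_zero _).trans (map_zero _).symm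
      | tmul c a => rfl
      | add a b ha hb => rw [map_add, map_add, ha, hb]
    have hj : Function.Injective j := fun a b hab =>
      Module.Flat.lTensor_preserves_injective_linearMap (M := B.carrier p)
        (invSub σ p).val.toLinearMap Subtype.val_injective
        ((hι a).symm.trans ((e.injective hab).trans (hι b)))
    have hex : Function.Exact (invSub σ p).val.toLinearMap (invDiff σ p) := fun a =>
      (invDiff_eq_zero σ).trans ⟨fun ha => ⟨⟨a, ha⟩, rfl⟩, fun ⟨y, hy⟩ => hy ▸ y.2⟩
    have hrange : j.range = fixedAlg α := by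
      apply le_antisymm
      · rintro c ⟨s, rfl⟩ g
        change α g (e _) = e _
        rw [hα]
        refine congrArg e ?_
        induction s with
        | zero => simp
        | tmul c a =>
          change c ⊗ₜ[X.ring p] (σ g).hom.app p a.1 = c ⊗ₜ[X.ring p] a.1
          rw [a.2 g]
        | add a b ha hb => simp only [map_add, ha, hb]
      · intro c hc
        obtain ⟨x, rfl⟩ := e.surjective c
        have h0 : LinearMap.lTensor (B.carrier p) (invDiff σ p) x = 0 := by
          let P := TensorProduct.piRight (X.ring p) (X.ring p) (B.carrier p)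
            (fun _ : G => A.obj.carrier p)
          apply P.injective
          rw [map_zero]
          funext g
          have hg : ∀ s, P (LinearMap.lTensor (B.carrier p) (invDiff σ p) s) g = τ g s - s :=
            fun s => by
              induction s with
              | zero => simp
              | tmul b a =>
                rw [LinearMap.lTensor_tmul, TensorProduct.piRight_apply,
                  TensorProduct.piRightHom_tmul]
                change _ = b ⊗ₜ[X.ring p] (σ g).hom.app p a - b ⊗ₜ[X.ring p] a
                rw [← TensorProduct.tmul_sub]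
                rfl
              | add a b ha hb =>
                rw [map_add, map_add, Pi.add_apply, ha, hb, map_add, add_sub_add_comm]
          rw [hg]
          exact sub_eq_zero.2 (e.injective ((hα g x).symm.trans (hc g)))
        obtain ⟨s, rfl⟩ := (Module.Flat.lTensor_exact (B.carrier p) hex x).1 h0
        exact ⟨s, congrArg e (hι s)⟩
    let e' := (AlgEquiv.ofInjective j hj).trans (Subalgebra.equivOfEq _ _ hrange)
    haveI : Algebra.Etale (B.carrier p) (B.carrier p ⊗[X.ring p] invSub σ p) :=
      Algebra.Etale.of_equiv e'.symm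
    exact Algebra.Etale.of_etale_tensorProduct_of_faithfullyFlat (R := X.ring p)
      (S := invSub σ p) (B.carrier p)

end Invariants

section Galois

/-- The local triviality hypothesis. -/
abbrev LocTriv (X : RSpace.{u}) : Prop :=
  ∀ A : FEt X, ∃ (B : Alg X) (n : ℕ), B.IsCovering ∧ ∀ p : X.pt,
    Nonempty (TensorProduct (X.ring p) (B.carrier p) (A.obj.carrier p) ≃ₐ[B.carrier p]
      (Fin n → B.carrier p))

variable {G : Type u} [Group G] [Finite G]

section Limit

variable (hX : X.IsFinSp) (hlt : LocTriv X) (K : SingleObj G ⥤ FEt X)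

/-- The object with an action. -/
abbrev actObj : FEt X := K.obj (SingleObj.star G)

/-- The action. -/
def act (g : G) : actObj K ⟶ actObj K := K.map (X := SingleObj.star G) (Y := SingleObj.star G) g

theorem act_one : act K 1 = 𝟙 (actObj K) := K.map_id _

theorem act_mul (g h : G) : act K (g * h) = act K h ≫ act K g :=
  K.map_comp (X := SingleObj.star G) (Y := SingleObj.star G) (Z := SingleObj.star G) h g

/-- The étale cover of invariants. -/
def invFEt : FEt X :=
  ⟨invAlg (act K), invAlg_isEtCover _ hX (hlt _) (act_one K) (act_mul K)⟩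

/-- The cone of invariants. -/
def invCone : Cone K where
  pt := invFEt hX hlt K
  π :=
    { app := fun _ => ObjectProperty.homMk (invIncl (act K))
      naturality := fun _ _ g => fet_hom_ext _ _ fun _ a => (a.2 g).symm }

/-- The cone of invariants is a limit. -/
def invConeIsLimit : IsLimit (invCone hX hlt K) where
  lift s := ObjectProperty.homMk
    ⟨fun p => AlgHom.codRestrict ((s.π.app (SingleObj.star G)).hom.app p) (invSub (act K) p)
      fun a g => by
        exact congrArg (fun φ => φ.hom.app p a)
          (s.w (j := SingleObj.star G) (j' := SingleObj.star G) g),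
      fun h a => Subtype.ext ((s.π.app (SingleObj.star G)).hom.compat h a)⟩
  fac s j := fet_hom_ext _ _ fun _ _ => rfl
  uniq s m hm := fet_hom_ext _ _ fun p a => Subtype.ext
    (congrArg (fun φ => φ.hom.app p a) (hm (SingleObj.star G)) :)

include hX hlt in
theorem hasLimit_act : HasLimit K := HasLimit.mk ⟨_, invConeIsLimit hX hlt K⟩

end Limit

variable {Ω : Type u} [Field Ω] [IsAlgClosed Ω] (ξ : GeomPt X Ω)

theorem exists_conj {A : FEt X} (σ : G → (A ⟶ A)) (h1 : σ 1 = 𝟙 A)
    (hmul : ∀ g h, σ (g * h) = σ h ≫ σ g) (φ ψ : Pts ξ A.obj)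
    (h : ∀ a ∈ invSub σ ξ.base, φ.1 a = ψ.1 a) : ∃ g, ψ = ptsMap ξ (σ g).hom φ := by
  classical
  open Polynomial in
  haveI := Fintype.ofFinite G
  haveI := (A.property.2 ξ.base).1
  obtain ⟨m, a, ha⟩ := Module.Finite.exists_fin (R := X.ring ξ.base) (M := A.obj.carrier ξ.base)
  let s : G → (A.obj.carrier ξ.base →+* A.obj.carrier ξ.base) := fun g =>
    ((σ g).hom.app ξ.base).toRingHom
  have hs1 : s 1 = RingHom.id _ := by
    refine RingHom.ext fun x => ?_
    change (σ 1).hom.app ξ.base x = x
    rw [h1]
    rfl
  have hsm : ∀ g k x, s (g * k) x = s g (s k x) := fun g k x => by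
    change (σ (g * k)).hom.app ξ.base x = _
    rw [hmul]
    rfl
  let P : (A.obj.carrier ξ.base)[X] := ∑ i : Fin m, Polynomial.monomial (i : ℕ) (a i)
  let Q : (A.obj.carrier ξ.base)[X][X] := ∏ g, (Polynomial.X - Polynomial.C (P.map (s g)))
  have hQ : ∀ k, Q.map (Polynomial.mapRingHom (s k)) = Q := fun k => by
    change (∏ g, (Polynomial.X - Polynomial.C (P.map (s g)))).map _ = _
    rw [Polynomial.map_prod]
    simp only [Polynomial.map_sub, Polynomial.map_X, Polynomial.map_C, Polynomial.coe_mapRingHom,
      Polynomial.map_map]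
    refine Eq.trans ?_ (Equiv.prod_comp (Equiv.mulLeft k)
      fun g => Polynomial.X - Polynomial.C (P.map (s g)))
    refine Finset.prod_congr rfl fun g _ => ?_
    rw [show (s k).comp (s g) = s (k * g) from RingHom.ext fun x => (hsm k g x).symm]
    rfl
  have hQeq : Q.map (Polynomial.mapRingHom φ.1) = Q.map (Polynomial.mapRingHom ψ.1) := by
    ext i j
    simp only [Polynomial.coeff_map, Polynomial.coe_mapRingHom]
    refine h _ fun g => ?_
    have := congrArg (fun R => (R.coeff i).coeff j) (hQ g)
    simp only [Polynomial.coeff_map, Polynomial.coe_mapRingHom] at this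
    exact this
  have hroot : ∀ χ : A.obj.carrier ξ.base →+* Ω,
      (Q.map (Polynomial.mapRingHom χ)).eval (P.map ψ.1) =
        ∏ g, (P.map ψ.1 - P.map (χ.comp (s g))) := fun χ => by
    change ((∏ g, (Polynomial.X - Polynomial.C (P.map (s g)))).map _).eval _ = _
    rw [Polynomial.map_prod, Polynomial.eval_prod]
    simp only [Polynomial.map_sub, Polynomial.map_X, Polynomial.map_C, Polynomial.eval_sub,
      Polynomial.eval_X, Polynomial.eval_C, Polynomial.coe_mapRingHom, Polynomial.map_map]
  have h0 : ∏ g, (P.map ψ.1 - P.map (φ.1.comp (s g))) = 0 := by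
    rw [← hroot, hQeq, hroot]
    exact Finset.prod_eq_zero (Finset.mem_univ 1) (by rw [hs1, RingHom.comp_id, sub_self])
  obtain ⟨g, -, hg⟩ := Finset.prod_eq_zero_iff.1 h0
  have hcoeff : ∀ i : Fin m, P.coeff i = a i := fun i => by
    change (∑ i : Fin m, Polynomial.monomial (i : ℕ) (a i)).coeff i = _
    rw [Polynomial.finsetSum_coeff, Finset.sum_eq_single i
      (fun j _ hj => Polynomial.coeff_monomial_of_ne _ fun e => hj (Fin.ext e.symm))
      (fun hh => absurd (Finset.mem_univ i) hh), Polynomial.coeff_monomial_same]
  refine ⟨g, pts_ext ξ fun x => ?_⟩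
  have hx : x ∈ Submodule.span (X.ring ξ.base) (Set.range a) := ha ▸ trivial
  induction hx using Submodule.span_induction with
  | mem y hy =>
    obtain ⟨i, rfl⟩ := hy
    have := congrArg (fun R => R.coeff (i : ℕ)) (sub_eq_zero.1 hg)
    simp only [Polynomial.coeff_map, hcoeff] at this
    exact this
  | zero => exact (map_zero _).trans (map_zero _).symm
  | add y z _ _ hy hz => rw [map_add, map_add, hy, hz]
  | smul r y _ hy =>
    rw [Algebra.smul_def, map_mul, map_mul, hy]
    exact congrArg (· * _) ((ψ.2 r).trans ((ptsMap ξ (σ g).hom φ).2 r).symm)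

theorem ptsFunctor_preservesQuotients (hX : X.IsFinSp) (hlt : LocTriv X) :
    PreservesColimitsOfShape (SingleObj G) (ptsFunctor ξ) := by
  refine ⟨fun {K} => ?_⟩
  let K' : SingleObj G ⥤ FEt X := (Groupoid.invEquivalence (C := SingleObj G)).functor ⋙ K.leftOp
  let A : FEt X := (K.obj (SingleObj.star G)).unop
  let σ : G → (A ⟶ A) := fun g =>
    (K.map (X := SingleObj.star G) (Y := SingleObj.star G) (g⁻¹ : G)).unop
  have h1 : σ 1 = 𝟙 A := by
    change (K.map (X := SingleObj.star G) (Y := SingleObj.star G) ((1 : G)⁻¹)).unop = _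
    rw [inv_one]
    exact congrArg Quiver.Hom.unop (K.map_id (SingleObj.star G))
  have hmul : ∀ g h, σ (g * h) = σ h ≫ σ g := fun g h => by
    change (K.map (X := SingleObj.star G) (Y := SingleObj.star G) ((g * h)⁻¹)).unop = _
    rw [mul_inv_rev]
    exact congrArg Quiver.Hom.unop (K.map_comp (X := SingleObj.star G) (Y := SingleObj.star G)
      (Z := SingleObj.star G) (g⁻¹ : G) (h⁻¹ : G))
  let I : FEt X := ⟨invAlg σ, invAlg_isEtCover σ hX (hlt A) h1 hmul⟩
  let ι : I ⟶ A := ObjectProperty.homMk (invIncl σ)
  let c : Cocone K :=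
    { pt := op I
      ι :=
        { app := fun _ => ι.op
          naturality := fun _ _ g => by
            apply Quiver.Hom.unop_inj
            refine fet_hom_ext _ _ fun p a => ?_
            have := a.2 (g⁻¹ : G)
            change (K.map (X := SingleObj.star G) (Y := SingleObj.star G) ((g⁻¹ : G)⁻¹)).unop.hom.app p a.1
              = a.1 at this
            rwa [inv_inv] at this } }
  have hc : IsColimit c :=
    { desc := fun s => Quiver.Hom.op (ObjectProperty.homMk
        ⟨fun p => AlgHom.codRestrict ((s.ι.app (SingleObj.star G)).unop.hom.app p) (invSub σ p)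
          fun a g => by
            exact congrArg (fun φ => φ.unop.hom.app p a)
              (s.w (j := SingleObj.star G) (j' := SingleObj.star G) (g⁻¹ : G)),
          fun h a => Subtype.ext ((s.ι.app (SingleObj.star G)).unop.hom.compat h a)⟩)
      fac := fun s j => Quiver.Hom.unop_inj (fet_hom_ext _ _ fun _ _ => rfl)
      uniq := fun s m hm => Quiver.Hom.unop_inj (fet_hom_ext _ _ fun p a => Subtype.ext
        (congrArg (fun φ => φ.unop.hom.app p a) (hm (SingleObj.star G)) :)) }
  have hsurj : Function.Surjective (ptsMap ξ ι.hom : Pts ξ A.obj → Pts ξ I.obj) :=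
    exists_pt_extend ξ ι Subtype.val_injective
  refine preservesColimit_of_preserves_colimit_cocone hc ?_
  have horb : ∀ (s : Cocone (K ⋙ ptsFunctor ξ)) (φ ψ : Pts ξ A.obj),
      ptsMap ξ ι.hom φ = ptsMap ξ ι.hom ψ →
        s.ι.app (SingleObj.star G) φ = s.ι.app (SingleObj.star G) ψ := fun s φ ψ hh => by
    obtain ⟨g, rfl⟩ := exists_conj ξ σ h1 hmul φ ψ fun a ha =>
      congrArg (fun χ : Pts ξ I.obj => χ.1 ⟨a, ha⟩) hh
    exact (ConcreteCategory.congr_hom
      (s.w (j := SingleObj.star G) (j' := SingleObj.star G) (g⁻¹ : G)) φ).symm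
  exact
    { desc := fun s => ↾fun y => s.ι.app (SingleObj.star G) (hsurj y).choose
      fac := fun s j => by
        ext φ
        exact horb s _ φ (hsurj (ptsMap ξ ι.hom φ)).choose_spec
      uniq := fun s m hm => by
        ext y
        conv_lhs => rw [← (hsurj y).choose_spec]
        exact ConcreteCategory.congr_hom (hm (SingleObj.star G)) (hsurj y).choose }

theorem hasLimitsOfShape_singleObj (hX : X.IsFinSp) (hlt : LocTriv X) :
    HasLimitsOfShape (SingleObj G) (FEt X) :=
  ⟨fun K => hasLimit_act hX hlt K⟩

theorem exists_galois (hX : X.IsFinSp) (hW : X.IsWellConnected) (hlt : LocTriv X)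
    (hepi : ∀ (A B : FEt X) (f : A ⟶ B), Epi f → ∀ p : X.pt, Function.Surjective (f.hom.app p)) :
    ∃ h : PreGaloisCategory (FEt X)ᵒᵖ,
      @PreGaloisCategory.FiberFunctor (FEt X)ᵒᵖ _ h ξ.fibFunctor := by
  letI hpre : PreGaloisCategory (FEt X)ᵒᵖ :=
          { hasTerminal := inferInstance
            hasPullbacks := inferInstance
            hasFiniteCoproducts := inferInstance
            hasQuotientsByFiniteGroups := fun H _ _ => by
              haveI := hasLimitsOfShape_singleObj (G := H) hX hlt
              haveI : HasLimitsOfShape (SingleObj H)ᵒᵖ (FEt X) :=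
                hasLimitsOfShape_of_equivalence (Groupoid.invEquivalence (C := SingleObj H))
              exact hasColimitsOfShape_op_of_hasLimitsOfShape
            monoInducesIsoOnDirectSummand := fun {P Q} i _ => by
              haveI : Epi i.unop := inferInstance
              obtain ⟨D, π, ⟨hl⟩⟩ := exists_prod i.unop hX (hepi _ _ i.unop inferInstance)
              exact ⟨op D, π.op, ⟨BinaryFan.IsLimit.op hl⟩⟩ }
  refine ⟨hpre, ?_⟩
  exact
      { preservesTerminalObjects := (fibFunctor_preserves ξ hX).1
        preservesPullbacks := (fibFunctor_preserves ξ hX).2.1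
        preservesFiniteCoproducts := (fibFunctor_preserves ξ hX).2.2.1
        preservesEpis := (fibFunctor_preserves ξ hX).2.2.2
        preservesQuotientsByFiniteGroups := fun H _ _ =>
          preservesColimitsOfShape_fibFunctor ξ (ptsFunctor_preservesQuotients ξ hX hlt)
        reflectsIsos := reflectsIsomorphisms_fibFunctor ξ hX hW }

end Galois

end Groth.Agent.SchFinLib
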