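import Groth.Agent.SchFinLib.Kernel
import Mathlib.CategoryTheory.Limits.Preserves.Shapes.Terminal
import Mathlib.CategoryTheory.Limits.Shapes.Opposites.Products
import Mathlib.CategoryTheory.Limits.Shapes.Opposites.Pullbacks
import Mathlib.CategoryTheory.Limits.Types.Pullbacks
import Mathlib.RingTheory.Etale.Field
import Mathlib.RingTheory.TensorProduct.Pi

/-! The fibre functor of a geometric point as a functor of field-valued points. -/

set_option autoImplicit false

open TensorProduct CategoryTheory Limits Opposite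

namespace Groth.Agent.SchFinLib

open SchFin

universe u

variable {X : RSpace.{u}} {Ω : Type u} [Field Ω] [IsAlgClosed Ω] (ξ : GeomPt X Ω)

/-- The field-valued points of an algebra over a geometric point. -/
def Pts (A : Alg X) : Type u :=
  {φ : A.carrier ξ.base →+* Ω // ∀ r, φ (algebraMap (X.ring ξ.base) _ r) = ξ.toField r}

/-- Pullback of points along a morphism. -/
def ptsMap {A B : Alg X} (f : A ⟶ B) (φ : Pts ξ B) : Pts ξ A :=
  ⟨φ.1.comp (f.app ξ.base).toRingHom, fun r =>
    (congrArg φ.1 ((f.app ξ.base).commutes r)).trans (φ.2 r)⟩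

theorem ptsMap_apply {A B : Alg X} (f : A ⟶ B) (φ : Pts ξ B) (a : A.carrier ξ.base) :
    (ptsMap ξ f φ).1 a = φ.1 (f.app ξ.base a) := rfl

theorem pts_ext {A : Alg X} {φ ψ : Pts ξ A} (h : ∀ a, φ.1 a = ψ.1 a) : φ = ψ :=
  Subtype.ext (RingHom.ext h)

/-- The point of the fibre given by a field-valued point. -/
noncomputable def ptPrime {A : Alg X} (φ : Pts ξ A) : ξ.Fib A :=
  letI : Algebra (X.ring ξ.base) Ω := ξ.toField.toAlgebra
  ⟨RingHom.ker (Algebra.TensorProduct.productMap (AlgHom.id (X.ring ξ.base) Ω)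
      ({ φ.1 with commutes' := φ.2 } : A.carrier ξ.base →ₐ[X.ring ξ.base] Ω)).toRingHom,
    RingHom.ker_isPrime _⟩

theorem mem_ptPrime {A : Alg X} (φ : Pts ξ A) :
    letI : Algebra (X.ring ξ.base) Ω := ξ.toField.toAlgebra
    ∀ t, t ∈ (ptPrime ξ φ).asIdeal ↔
      Algebra.TensorProduct.productMap (AlgHom.id (X.ring ξ.base) Ω)
        ({ φ.1 with commutes' := φ.2 } : A.carrier ξ.base →ₐ[X.ring ξ.base] Ω) t = 0 :=
  fun _ => Iff.rfl

theorem ptPrime_injective {A : Alg X} :
    Function.Injective (ptPrime ξ : Pts ξ A → ξ.Fib A) := by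
  letI : Algebra (X.ring ξ.base) Ω := ξ.toField.toAlgebra
  intro φ ψ h
  refine pts_ext ξ fun a => ?_
  have h1 : (1 : Ω) ⊗ₜ[X.ring ξ.base] a - φ.1 a ⊗ₜ[X.ring ξ.base] 1 ∈ (ptPrime ξ φ).asIdeal := by
    rw [mem_ptPrime, map_sub, Algebra.TensorProduct.productMap_apply_tmul,
      Algebra.TensorProduct.productMap_apply_tmul, map_one, one_mul, map_one, mul_one]
    exact sub_self _
  rw [h, mem_ptPrime, map_sub, Algebra.TensorProduct.productMap_apply_tmul,
    Algebra.TensorProduct.productMap_apply_tmul, map_one, one_mul, map_one, mul_one, sub_eq_zero]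
    at h1
  exact h1.symm

theorem ptPrime_surjective {A : Alg X}
    [Module.Finite (X.ring ξ.base) (A.carrier ξ.base)] :
    Function.Surjective (ptPrime ξ : Pts ξ A → ξ.Fib A) := by
  letI : Algebra (X.ring ξ.base) Ω := ξ.toField.toAlgebra
  intro 𝔭
  let p : PrimeSpectrum (Ω ⊗[X.ring ξ.base] A.carrier ξ.base) := 𝔭
  haveI : IsDomain ((Ω ⊗[X.ring ξ.base] A.carrier ξ.base) ⧸ p.asIdeal) :=
    Ideal.Quotient.isDomain p.asIdeal
  haveI : Algebra.IsIntegral Ω ((Ω ⊗[X.ring ξ.base] A.carrier ξ.base) ⧸ p.asIdeal) :=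
    Algebra.IsIntegral.of_finite _ _
  let e := AlgEquiv.ofBijective (Algebra.ofId Ω ((Ω ⊗[X.ring ξ.base] A.carrier ξ.base) ⧸ p.asIdeal))
    IsAlgClosed.algebraMap_bijective_of_isIntegral
  let g : Ω ⊗[X.ring ξ.base] A.carrier ξ.base →ₐ[Ω] Ω :=
    e.symm.toAlgHom.comp (Ideal.Quotient.mkₐ Ω p.asIdeal)
  refine ⟨⟨(g.restrictScalars (X.ring ξ.base)).toRingHom.comp
    (Algebra.TensorProduct.includeRight (R := X.ring ξ.base) (A := Ω)
      (B := A.carrier ξ.base)).toRingHom, fun r => ?_⟩, ?_⟩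
  · exact ((g.restrictScalars (X.ring ξ.base)).comp
      (Algebra.TensorProduct.includeRight (R := X.ring ξ.base) (A := Ω)
        (B := A.carrier ξ.base))).commutes r
  · refine PrimeSpectrum.ext (Ideal.ext fun t => (mem_ptPrime ξ _ t).trans ?_)
    have key : ∀ s, Algebra.TensorProduct.productMap (AlgHom.id (X.ring ξ.base) Ω)
        ((g.restrictScalars (X.ring ξ.base)).comp
          (Algebra.TensorProduct.includeRight (R := X.ring ξ.base) (A := Ω)
            (B := A.carrier ξ.base))) s = g s := fun s => by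
      induction s with
      | zero => simp
      | tmul c a =>
        rw [Algebra.TensorProduct.productMap_apply_tmul]
        change c * g ((1 : Ω) ⊗ₜ a) = g (c ⊗ₜ a)
        rw [show c ⊗ₜ[X.ring ξ.base] a = c • ((1 : Ω) ⊗ₜ[X.ring ξ.base] a) by
          rw [TensorProduct.smul_tmul', smul_eq_mul, mul_one], map_smul, smul_eq_mul]
      | add a b ha hb => rw [map_add, map_add, ha, hb]
    refine (iff_of_eq (congrArg (· = 0) (key t))).trans ?_
    change e.symm (Ideal.Quotient.mk p.asIdeal t) = 0 ↔ t ∈ p.asIdeal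
    rw [map_eq_zero_iff _ e.symm.injective, Ideal.Quotient.eq_zero_iff_mem]

/-- Points of the fibre are field-valued points. -/
noncomputable def ptEquiv (A : FEt X) : Pts ξ A.obj ≃ ξ.Fib A.obj :=
  haveI := (A.property.2 ξ.base).1
  Equiv.ofBijective _ ⟨ptPrime_injective ξ, ptPrime_surjective ξ⟩

theorem fibMap_ptPrime {A B : Alg X} (f : A ⟶ B) (φ : Pts ξ B) :
    ξ.fibMap f (ptPrime ξ φ) = ptPrime ξ (ptsMap ξ f φ) := by
  letI : Algebra (X.ring ξ.base) Ω := ξ.toField.toAlgebra
  refine PrimeSpectrum.ext (Ideal.ext fun t => ?_)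
  refine Iff.trans ?_ (mem_ptPrime ξ _ t).symm
  refine Iff.trans (mem_ptPrime ξ φ
    (Algebra.TensorProduct.map (AlgHom.id Ω Ω) (f.app ξ.base) t)) (iff_of_eq (congrArg (· = 0) ?_))
  induction t with
  | zero => simp
  | tmul c a =>
    rw [Algebra.TensorProduct.map_tmul, Algebra.TensorProduct.productMap_apply_tmul,
      Algebra.TensorProduct.productMap_apply_tmul]
    rfl
  | add a b ha hb => simp only [map_add, ha, hb]

/-- The functor of field-valued points. -/
def ptsFunctor : (FEt X)ᵒᵖ ⥤ Type u where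
  obj A := Pts ξ A.unop.obj
  map f := ↾(ptsMap ξ f.unop.hom)

/-- The fibre functor is the functor of field-valued points. -/
noncomputable def ptsIso : ptsFunctor ξ ≅ ξ.fibFunctor ⋙ FintypeCat.incl :=
  NatIso.ofComponents (fun A => (ptEquiv ξ A.unop).toIso) fun {A B} f => by
    ext φ
    exact (fibMap_ptPrime ξ f.unop.hom φ).symm

theorem preservesLimitsOfShape_fibFunctor {J : Type*} [Category J]
    (h : PreservesLimitsOfShape J (ptsFunctor ξ)) : PreservesLimitsOfShape J ξ.fibFunctor :=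
  haveI := preservesLimitsOfShape_of_natIso (J := J) (ptsIso ξ)
  preservesLimitsOfShape_of_reflects_of_preserves ξ.fibFunctor FintypeCat.incl

theorem preservesColimitsOfShape_fibFunctor {J : Type*} [Category J]
    (h : PreservesColimitsOfShape J (ptsFunctor ξ)) : PreservesColimitsOfShape J ξ.fibFunctor :=
  haveI := preservesColimitsOfShape_of_natIso (J := J) (ptsIso ξ)
  preservesColimitsOfShape_of_reflects_of_preserves ξ.fibFunctor FintypeCat.incl

/-- The unique point of the structure algebra. -/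
def strPt : Pts ξ (strFEt X).obj := ⟨ξ.toField, fun _ => rfl⟩

theorem ptsFunctor_preservesTerminal :
    PreservesLimitsOfShape (Discrete PEmpty.{1}) (ptsFunctor ξ) := by
  haveI : PreservesLimit (Functor.empty.{0} (FEt X)ᵒᵖ) (ptsFunctor ξ) := by
    refine preservesLimit_of_preserves_limit_cone (terminalOpOfInitial strIsInitial) ?_
    refine (isLimitMapConeEmptyConeEquiv (ptsFunctor ξ) (op (strFEt X))).symm ?_
    exact IsTerminal.ofUniqueHom (fun T => ↾fun _ => strPt ξ) fun T g => by
      ext t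
      exact pts_ext ξ fun r => (g t).2 r
  exact preservesLimitsOfShape_pempty_of_preservesTerminal _

theorem isPullback_pts {A B C : FEt X} (f : A ⟶ B) (g : A ⟶ C) :
    IsPullback ((ptsFunctor ξ).map (pushCocone f g).inr.op)
      ((ptsFunctor ξ).map (pushCocone f g).inl.op) ((ptsFunctor ξ).map g.op)
      ((ptsFunctor ξ).map f.op) := by
  rw [Types.isPullback_iff]
  refine ⟨?_, fun φ ψ ⟨h1, h2⟩ => ?_, fun φ₂ φ₁ h => ?_⟩
  · rw [← Functor.map_comp, ← Functor.map_comp, ← op_comp, ← op_comp, (pushCocone f g).condition]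
  · refine pts_ext ξ fun x => RingHom.congr_fun (pcar_ext f.hom g.hom (u := φ.1) (v := ψ.1)
      (RingHom.ext fun b => ?_) (RingHom.ext fun c => ?_)) x
    · exact congrArg (fun χ : Pts ξ B.obj => χ.1 b) h2
    · exact congrArg (fun χ : Pts ξ C.obj => χ.1 c) h1
  · have hcomp : ∀ a, φ₁.1 (f.hom.app ξ.base a) = φ₂.1 (g.hom.app ξ.base a) := fun a =>
      (congrArg (fun χ : Pts ξ A.obj => χ.1 a) h).symm
    refine ⟨⟨desc f.hom g.hom φ₁.1 φ₂.1 hcomp, fun r =>
      (desc_inl f.hom g.hom φ₁.1 φ₂.1 hcomp _).trans (φ₁.2 r)⟩, ?_, ?_⟩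
    · exact pts_ext ξ fun c => desc_inr f.hom g.hom φ₁.1 φ₂.1 hcomp c
    · exact pts_ext ξ fun b => desc_inl f.hom g.hom φ₁.1 φ₂.1 hcomp b

theorem ptsFunctor_preservesPullbacks :
    PreservesLimitsOfShape WalkingCospan (ptsFunctor ξ) := by
  refine ⟨fun {K} => ?_⟩
  haveI : ∀ {P Q S : (FEt X)ᵒᵖ} (a : P ⟶ S) (b : Q ⟶ S),
      PreservesLimit (cospan a b) (ptsFunctor ξ) := fun {P Q S} a b => by
    have hpo : IsPushout b.unop a.unop (pushCocone b.unop a.unop).inl
        (pushCocone b.unop a.unop).inr := IsPushout.of_isColimit (pushCoconeIsColimit _ _)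
    refine preservesLimit_of_preserves_limit_cone hpo.op.isLimit ?_
    exact (PullbackCone.isLimitMapConeEquiv hpo.op.cone (ptsFunctor ξ)).symm
      (isPullback_pts ξ b.unop a.unop).isLimit
  exact preservesLimit_of_iso_diagram (ptsFunctor ξ) (diagramIsoCospan K).symm

theorem exists_single_one {ι : Type} [Fintype ι] [DecidableEq ι] {R : ι → Type u}
    [∀ i, CommRing (R i)] (φ : (∀ i, R i) →+* Ω) : ∃ i, φ (Pi.single i 1) = 1 := by
  by_contra hall
  push_neg at hall
  have h0 : φ (∑ i, Pi.single i 1) = 0 := by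
    rw [map_sum]
    refine Finset.sum_eq_zero fun i _ => ?_
    have he : φ (Pi.single i 1) * φ (Pi.single i 1) = φ (Pi.single i 1) := by
      rw [← map_mul, ← Pi.single_mul, one_mul]
    rcases mul_eq_zero.1 (show φ (Pi.single i 1) * (φ (Pi.single i 1) - 1) = 0 by
      rw [mul_sub, mul_one, he, sub_self]) with h | h
    · exact h
    · exact absurd (sub_eq_zero.1 h) (hall i)
  rw [show (∑ i, Pi.single i (1 : R i)) = 1 from Finset.univ_sum_single 1, map_one] at h0
  exact one_ne_zero h0

theorem exists_factor_pi {ι : Type} [Finite ι] (A : ι → FEt X) (φ : Pts ξ (piFEt A).obj) :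
    ∃ (i : ι) (ψ : Pts ξ (A i).obj), φ = ptsMap ξ (piProj (fun i => (A i).obj) i) ψ := by
  classical
  haveI := Fintype.ofFinite ι
  obtain ⟨i, hi⟩ := exists_single_one (R := fun i => (A i).obj.carrier ξ.base) φ.1
  let φ' : (∀ j, (A j).obj.carrier ξ.base) →+* Ω := φ.1
  have key : ∀ a : ∀ j, (A j).obj.carrier ξ.base, φ' a = φ' (Pi.single i (a i)) := fun a => by
    have : φ' (a * Pi.single i 1) = φ' a := by
      rw [map_mul, show φ' (Pi.single i 1) = 1 from hi, mul_one]
    rw [← this]
    congr 1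
    funext j
    rcases eq_or_ne j i with rfl | hne
    · rw [Pi.mul_apply, Pi.single_eq_same, Pi.single_eq_same, mul_one]
    · rw [Pi.mul_apply, Pi.single_eq_of_ne hne, Pi.single_eq_of_ne hne, mul_zero]
  refine ⟨i, ⟨{ toFun := fun a => φ.1 (Pi.single i a)
                map_one' := hi
                map_mul' := fun a b => by rw [Pi.single_mul]; exact map_mul φ.1 _ _
                map_zero' := by rw [Pi.single_zero]; exact map_zero φ.1
                map_add' := fun a b => by rw [Pi.single_add]; exact map_add φ.1 _ _ },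
      fun r => ?_⟩, ?_⟩
  · change φ.1 (Pi.single i (algebraMap (X.ring ξ.base) _ r)) = ξ.toField r
    exact (key (algebraMap (X.ring ξ.base) (∀ j, (A j).obj.carrier ξ.base) r)).symm.trans (φ.2 r)
  · exact pts_ext ξ fun a => key a

theorem ptsMap_proj_injective {ι : Type} [Finite ι] (A : ι → FEt X) {i j : ι}
    {ψ : Pts ξ (A i).obj} {ψ' : Pts ξ (A j).obj}
    (h : ptsMap ξ (piProj (fun i => (A i).obj) i) ψ = ptsMap ξ (piProj (fun i => (A i).obj) j) ψ') :
    (⟨i, ψ⟩ : Σ k, Pts ξ (A k).obj) = ⟨j, ψ'⟩ := by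
  classical
  have hij : i = j := by
    by_contra hne
    have := congrArg (fun χ : Pts ξ _ => χ.1 (Pi.single i (1 : (A i).obj.carrier ξ.base))) h
    change ψ.1 (Pi.single (M := fun k => (A k).obj.carrier ξ.base) i 1 i) =
      ψ'.1 (Pi.single (M := fun k => (A k).obj.carrier ξ.base) i 1 j) at this
    rw [Pi.single_eq_same, map_one, Pi.single_eq_of_ne (Ne.symm hne), map_zero] at this
    exact one_ne_zero this
  subst hij
  refine Sigma.ext rfl (heq_of_eq (pts_ext ξ fun a => ?_))
  have := congrArg (fun χ : Pts ξ _ => χ.1 (Pi.single i a)) h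
  change ψ.1 (Pi.single (M := fun k => (A k).obj.carrier ξ.base) i a i) =
    ψ'.1 (Pi.single (M := fun k => (A k).obj.carrier ξ.base) i a i) at this
  rwa [Pi.single_eq_same] at this

theorem ptsFunctor_preservesFiniteCoproducts :
    PreservesFiniteCoproducts (ptsFunctor ξ) := by
  refine ⟨fun n => ⟨fun {K} => ?_⟩⟩
  let A : Fin n → FEt X := fun i => (K.obj ⟨i⟩).unop
  haveI : PreservesColimit (Discrete.functor fun i => op (A i)) (ptsFunctor ξ) := by
    refine preservesColimit_of_preserves_colimit_cocone (Fan.IsLimit.op (piFanIsLimit A)) ?_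
    refine (isColimitMapCoconeCofanMkEquiv (ptsFunctor ξ) (fun i => op (A i))
      (fun i => ((piFan A).proj i).op)).symm ?_
    let tot : (Σ i, Pts ξ (A i).obj) → Pts ξ (piFEt A).obj :=
      fun x => ptsMap ξ (piProj (fun i => (A i).obj) x.1) x.2
    have htot : Function.Bijective tot :=
      ⟨fun x y h => ptsMap_proj_injective ξ A h, fun φ => by
        obtain ⟨i, ψ, h⟩ := exists_factor_pi ξ A φ
        exact ⟨⟨i, ψ⟩, h.symm⟩⟩
    let e := Equiv.ofBijective tot htot
    refine mkCofanColimit _ (fun t => ↾fun φ => t.inj (e.symm φ).1 (e.symm φ).2) ?_ ?_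
    · intro t i
      ext ψ
      have : e.symm (tot ⟨i, ψ⟩) = ⟨i, ψ⟩ := e.symm_apply_apply _
      exact (congrArg (fun x : Σ k, Pts ξ (A k).obj => t.inj x.1 x.2) this :)
    · intro t m hm
      ext φ
      obtain ⟨x, rfl⟩ := e.surjective φ
      refine Eq.trans ?_ (congrArg (fun y : Σ k, Pts ξ (A k).obj => t.inj y.1 y.2)
        (e.symm_apply_apply x).symm)
      exact ConcreteCategory.congr_hom (hm x.1) x.2
  haveI : PreservesColimit (Discrete.functor (K.obj ∘ Discrete.mk)) (ptsFunctor ξ) := this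
  exact preservesColimit_of_iso_diagram (ptsFunctor ξ)
    (Discrete.natIsoFunctor (F := K)).symm

theorem exists_pt_extend {A B : FEt X} (f : A ⟶ B)
    (hf : Function.Injective (f.hom.app ξ.base)) (φ : Pts ξ A.obj) :
    ∃ ψ : Pts ξ B.obj, ptsMap ξ f.hom ψ = φ := by
  letI := (f.hom.app ξ.base).toRingHom.toAlgebra
  haveI := (finite_projective_app f ξ.base).1
  haveI := (finite_projective_app f ξ.base).2
  letI : Algebra (A.obj.carrier ξ.base) Ω := φ.1.toAlgebra
  obtain ⟨σ, hσ⟩ := exists_retraction (A := A.obj.carrier ξ.base) (B := B.obj.carrier ξ.base) hf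
  haveI : Nontrivial (Ω ⊗[A.obj.carrier ξ.base] B.obj.carrier ξ.base) := by
    refine ⟨⟨1, 0, fun h => ?_⟩⟩
    have := congrArg (fun t => TensorProduct.rid (A.obj.carrier ξ.base) Ω
      (LinearMap.lTensor Ω σ t)) h
    rw [Algebra.TensorProduct.one_def, LinearMap.lTensor_tmul, hσ, TensorProduct.rid_tmul,
      one_smul, map_zero, map_zero] at this
    exact one_ne_zero this
  obtain ⟨M, hM⟩ := Ideal.exists_maximal (Ω ⊗[A.obj.carrier ξ.base] B.obj.carrier ξ.base)
  haveI : IsDomain ((Ω ⊗[A.obj.carrier ξ.base] B.obj.carrier ξ.base) ⧸ M) :=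
    Ideal.Quotient.isDomain M
  haveI : Algebra.IsIntegral Ω ((Ω ⊗[A.obj.carrier ξ.base] B.obj.carrier ξ.base) ⧸ M) :=
    Algebra.IsIntegral.of_finite _ _
  let e := AlgEquiv.ofBijective
    (Algebra.ofId Ω ((Ω ⊗[A.obj.carrier ξ.base] B.obj.carrier ξ.base) ⧸ M))
    IsAlgClosed.algebraMap_bijective_of_isIntegral
  let g : B.obj.carrier ξ.base →ₐ[A.obj.carrier ξ.base] Ω :=
    ((e.symm.toAlgHom.comp (Ideal.Quotient.mkₐ Ω M)).restrictScalars (A.obj.carrier ξ.base)).comp
      (Algebra.TensorProduct.includeRight (R := A.obj.carrier ξ.base) (A := Ω)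
        (B := B.obj.carrier ξ.base))
  refine ⟨⟨g.toRingHom, fun r => ?_⟩, pts_ext ξ fun a => g.commutes a⟩
  rw [← (f.hom.app ξ.base).commutes r]
  exact (g.commutes _).trans (φ.2 r)

theorem fibFunctor_preservesEpimorphisms (hX : X.IsFinSp) :
    ξ.fibFunctor.PreservesEpimorphisms := by
  refine ⟨fun {P Q} f hf => FintypeCat.incl.epi_of_epi_map ((epi_iff_surjective _).2 fun x => ?_)⟩
  haveI : Mono f.unop := inferInstance
  obtain ⟨φ, rfl⟩ := (ptEquiv ξ Q.unop).surjective x
  obtain ⟨ψ, hψ⟩ := exists_pt_extend ξ f.unop (injective_of_mono f.unop hX ξ.base) φ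
  exact ⟨ptEquiv ξ P.unop ψ,
    (fibMap_ptPrime ξ f.unop.hom ψ).trans (congrArg (ptPrime ξ) hψ)⟩

theorem fibFunctor_preserves (hX : X.IsFinSp) :
    PreservesLimitsOfShape (Discrete PEmpty.{1}) ξ.fibFunctor ∧
      PreservesLimitsOfShape WalkingCospan ξ.fibFunctor ∧
      PreservesFiniteCoproducts ξ.fibFunctor ∧ ξ.fibFunctor.PreservesEpimorphisms :=
  ⟨preservesLimitsOfShape_fibFunctor ξ (ptsFunctor_preservesTerminal ξ),
    preservesLimitsOfShape_fibFunctor ξ (ptsFunctor_preservesPullbacks ξ),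
    ⟨fun n => preservesColimitsOfShape_fibFunctor ξ
      ((ptsFunctor_preservesFiniteCoproducts ξ).preserves n)⟩,
    fibFunctor_preservesEpimorphisms ξ hX⟩

section Rank

variable (hX : X.IsSchematic)

theorem rankAtStalk_eq_res (A : Alg X) (hA : A.IsQcoh) {p q : X.pt} (h : p ≤ q)
    [Module.Finite (X.ring p) (A.carrier p)] [Module.Flat (X.ring p) (A.carrier p)]
    (Q : PrimeSpectrum (X.ring q)) :
    Module.rankAtStalk (A.carrier q) Q =
      Module.rankAtStalk (A.carrier p) (PrimeSpectrum.comap (X.res h) Q) := by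
  letI := (X.res h).toAlgebra
  have e := AlgEquiv.ofBijective (resAlg A h) ((isQcoh_iff A).1 hA p q h)
  rw [← congrFun (Module.rankAtStalk_eq_of_equiv e.toLinearEquiv) Q]
  exact Module.rankAtStalk_baseChange Q

theorem flat_app (A : FEt X) (p : X.pt) : Module.Flat (X.ring p) (A.obj.carrier p) := by
  haveI := (A.property.2 p).2
  infer_instance

theorem finitePresentation_app (A : FEt X) (p : X.pt) :
    Module.FinitePresentation (X.ring p) (A.obj.carrier p) := by
  haveI := (A.property.2 p).1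
  haveI := (A.property.2 p).2
  exact Module.FinitePresentation.of_finite_of_finitePresentation _ _

theorem rankAtStalk_const (hW : X.IsWellConnected) (A : FEt X) (p q : X.pt)
    (P : PrimeSpectrum (X.ring p)) (Q : PrimeSpectrum (X.ring q)) :
    Module.rankAtStalk (A.obj.carrier p) P = Module.rankAtStalk (A.obj.carrier q) Q := by
  obtain ⟨hT, hP⟩ := isWellConnected_iff.1 hW
  have hin : ∀ (a : X.pt) (R S : PrimeSpectrum (X.ring a)),
      Module.rankAtStalk (A.obj.carrier a) R = Module.rankAtStalk (A.obj.carrier a) S := by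
    intro a R S
    haveI : ConnectedSpace (PrimeSpectrum (X.ring a)) := hP a
    haveI := finitePresentation_app A a
    haveI := flat_app A a
    exact Module.isLocallyConstant_rankAtStalk.apply_eq_of_preconnectedSpace R S
  let d : X.pt → ℕ := fun a =>
    Module.rankAtStalk (A.obj.carrier a) (hP a).toNonempty.some
  have hd : ∀ a b : X.pt, a ≤ b → d a = d b := fun a b hab => by
    haveI := (A.property.2 a).1
    haveI := flat_app A a
    exact (hin a _ _).trans (rankAtStalk_eq_res A.obj A.property.1 hab _).symm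
  exact ((hin p _ _).trans (eq_of_topConnected hT d hd p q)).trans (hin q _ _)

theorem card_fib (A : FEt X) :
    Nat.card (ξ.Fib A.obj) = Module.rankAtStalk (A.obj.carrier ξ.base)
      ⟨RingHom.ker ξ.toField, RingHom.ker_isPrime _⟩ := by
  letI : Algebra (X.ring ξ.base) Ω := ξ.toField.toAlgebra
  haveI := (A.property.2 ξ.base).1
  haveI := (A.property.2 ξ.base).2
  haveI := flat_app A ξ.base
  haveI : IsArtinianRing (Ω ⊗[X.ring ξ.base] A.obj.carrier ξ.base) :=
    IsArtinianRing.of_finite Ω _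
  let e := Algebra.FormallyEtale.equivPiOfIsSepClosed Ω (Ω ⊗[X.ring ξ.base] A.obj.carrier ξ.base)
  have h0 : PrimeSpectrum.comap (algebraMap (X.ring ξ.base) Ω)
      (⊥ : PrimeSpectrum Ω) = ⟨RingHom.ker ξ.toField, RingHom.ker_isPrime _⟩ :=
    PrimeSpectrum.ext (Ideal.ext fun r => Iff.rfl)
  rw [← h0, ← Module.rankAtStalk_baseChange (S := Ω), Module.rankAtStalk_eq_finrank_of_free,
    Pi.natCast_apply, Nat.cast_id]
  haveI := Fintype.ofFinite (PrimeSpectrum (Ω ⊗[X.ring ξ.base] A.obj.carrier ξ.base))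
  rw [e.toLinearEquiv.finrank_eq, Module.finrank_pi, Fintype.card_eq_nat_card]
  rfl

theorem reflectsIsomorphisms_fibFunctor (hX : X.IsFinSp) (hW : X.IsWellConnected) :
    ξ.fibFunctor.ReflectsIsomorphisms := by
  refine ⟨fun {P Q} f hf => ?_⟩
  have hbij : Function.Bijective (ξ.fibMap f.unop.hom) :=
    (isIso_iff_bijective (FintypeCat.incl.map (ξ.fibFunctor.map f))).1 inferInstance
  have hptbij : Function.Bijective (ptsMap ξ f.unop.hom) := by
    refine (Function.Bijective.of_comp_iff' (ptEquiv ξ Q.unop).bijective _).1 ?_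
    convert hbij.comp (ptEquiv ξ P.unop).bijective using 1
    funext φ
    exact (fibMap_ptPrime ξ f.unop.hom φ).symm
  let D : FEt X := ⟨complAlg f.unop hX, complAlg_isEtCover f.unop hX⟩
  have hD : ∀ p, kerIdem f.unop p = 0 := by
    have hzero : Nat.card (ξ.Fib D.obj) = 0 := by
      haveI : IsEmpty (ξ.Fib D.obj) := ⟨fun x => by
        obtain ⟨φ, rfl⟩ := (ptEquiv ξ D).surjective x
        obtain ⟨ψ, hψ⟩ := hptbij.2 (ptsMap ξ (toCompl f.unop hX) φ)
        have h1 := congrArg (fun χ : Pts ξ _ => χ.1 (kerIdem f.unop ξ.base)) hψ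
        change ψ.1 (f.unop.hom.app ξ.base (kerIdem f.unop ξ.base)) =
          φ.1 (Ideal.Quotient.mk _ (kerIdem f.unop ξ.base)) at h1
        rw [app_kerIdem, map_zero,
          show Ideal.Quotient.mk _ (kerIdem f.unop ξ.base) =
            (1 : (complAlg f.unop hX).carrier ξ.base) from
            (Ideal.Quotient.eq.2 (Ideal.mem_span_singleton_self _)).symm] at h1
        exact zero_ne_one (h1.trans (map_one φ.1))⟩
      exact Nat.card_of_isEmpty
    rw [card_fib] at hzero
    intro p
    haveI := (D.property.2 p).1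
    haveI := flat_app D p
    have hsub : Subsingleton (D.obj.carrier p) :=
      (Module.rankAtStalk_eq_zero_iff_subsingleton (R := X.ring p)).1
        (funext fun P => (rankAtStalk_const hW D p ξ.base P _).trans hzero)
    haveI : Subsingleton (Q.unop.obj.carrier p ⧸ Ideal.span {1 - kerIdem f.unop p}) := hsub
    obtain ⟨c, hc⟩ := Ideal.mem_span_singleton'.1 (Ideal.Quotient.eq_zero_iff_mem.1
      (Subsingleton.elim (Ideal.Quotient.mk (Ideal.span {1 - kerIdem f.unop p}) 1) 0))
    have := congrArg (· * kerIdem f.unop p) hc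
    rw [one_mul, mul_assoc, sub_mul, one_mul, kerIdem_isIdem f.unop p, sub_self, mul_zero] at this
    exact this.symm
  have hinj : ∀ p, Function.Injective (f.unop.hom.app p) := fun p => by
    rw [injective_iff_map_eq_zero]
    intro a ha
    rw [← eq_mul_kerIdem f.unop ha, hD p, mul_zero]
  have hcard : Nat.card (ξ.Fib P.unop.obj) = Nat.card (ξ.Fib Q.unop.obj) :=
    Nat.card_eq_of_bijective _ hbij
  rw [card_fib, card_fib] at hcard
  haveI : IsIso f.unop := fet_isIso_of_bijective _ fun p =>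
    bijective_of_rank_eq f.unop p (hinj p) fun R =>
      (rankAtStalk_const hW Q.unop p ξ.base R _).trans
        (hcard.symm.trans (rankAtStalk_const hW P.unop ξ.base p _ R))
  exact inferInstanceAs (IsIso f.unop.op)

end Rank

end Groth.Agent.SchFinLib
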